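import Cfsg.Agent.Lib.Transfer.Cuspidal.Orbit
import Cfsg.Agent.Lib.Char.Constituent

/-!
Cuspidal characters of the general linear group.
-/

set_option autoImplicit false
set_option linter.unusedSectionVars false

namespace Cfsg.Agent.GLCusp

open Polynomial Cfsg.Agent.Char
open scoped MatrixGroups ComplexConjugate

universe u

/-- An injective multiplicative map from a finite field to the complex numbers. -/
theorem exists_injective_theta (L : Type u) [Field L] [Fintype L] :
    ∃ θ : L →*₀ ℂ, Function.Injective θ := by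
  classical
  have hc : Nat.card Lˣ = Nat.card (rootsOfUnity (Nat.card Lˣ) ℂ) := by
    haveI : NeZero (Nat.card Lˣ) := ⟨Nat.card_pos.ne'⟩
    exact (Complex.card_rootsOfUnity _).symm
  haveI : NeZero (Nat.card Lˣ) := ⟨Nat.card_pos.ne'⟩
  let e : Lˣ ≃* rootsOfUnity (Nat.card Lˣ) ℂ := mulEquivOfCyclicCardEq hc
  let f : Lˣ →* ℂˣ := (rootsOfUnity (Nat.card Lˣ) ℂ).subtype.comp e.toMonoidHom
  have hf : Function.Injective f := fun a b h => e.injective (Subtype.ext h)
  refine ⟨{ toFun := fun x => if h : x = 0 then 0 else (f (Units.mk0 x h) : ℂ)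
            map_zero' := by simp
            map_one' := by simp
            map_mul' := fun x y => ?_ }, fun x y h => ?_⟩
  · by_cases hx : x = 0
    · simp [hx]
    by_cases hy : y = 0
    · simp [hy]
    simp only [dif_neg hx, dif_neg hy, dif_neg (mul_ne_zero hx hy)]
    rw [← Units.val_mul, ← map_mul, ← Units.mk0_mul]
  · change (if h : x = 0 then 0 else (f (Units.mk0 x h) : ℂ)) =
      (if h : y = 0 then 0 else (f (Units.mk0 y h) : ℂ)) at h
    by_cases hx : x = 0 <;> by_cases hy : y = 0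
    · rw [hx, hy]
    · rw [dif_pos hx, dif_neg hy] at h
      exact absurd h.symm (Units.ne_zero _)
    · rw [dif_neg hx, dif_pos hy] at h
      exact absurd h (Units.ne_zero _)
    · rw [dif_neg hx, dif_neg hy] at h
      exact congrArg Units.val (hf (Units.ext h))

variable {F : Type u} [Field F] [Fintype F] {L : Type u} [Field L] [Fintype L] [Algebra F L] {n : ℕ}

/-- The raised character. -/
def thetaPow (θ : L →*₀ ℂ) (e : ℕ) (he : e ≠ 0) : L →*₀ ℂ where
  toFun x := θ (x ^ e)
  map_zero' := by rw [zero_pow he, map_zero]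
  map_one' := by rw [one_pow, map_one]
  map_mul' x y := by rw [mul_pow, map_mul]

theorem thetaPow_injective (θ : L →*₀ ℂ) (hθ : Function.Injective θ) (e : ℕ) (he : e ≠ 0)
    (hco : e.Coprime (Nat.card Lˣ)) : Function.Injective (thetaPow θ e he) := by
  intro x y h
  have h' : x ^ e = y ^ e := hθ h
  by_cases hx : x = 0
  · subst hx
    rw [zero_pow he] at h'
    exact (pow_eq_zero_iff he).1 h'.symm |>.symm
  have hy : y ≠ 0 := by rintro rfl; rw [zero_pow he] at h'; exact hx ((pow_eq_zero_iff he).1 h')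
  have hu : (Units.mk0 x hx) ^ e = (Units.mk0 y hy) ^ e := Units.ext (by simpa using h')
  exact congrArg Units.val ((powCoprime hco.symm).injective hu)

theorem natCast_card_pow_sub_one (hn : 1 ≤ n) : ((Fintype.card F ^ n - 1 : ℕ) : L) = -1 := by
  rw [Nat.cast_sub (one_lt_card_pow (F := F) hn).le, Nat.cast_pow, Nat.cast_one,
    ← map_natCast (algebraMap F L), Nat.cast_card_eq_zero, map_zero, zero_pow (by omega), zero_sub]

/-- Data of the extension: all roots of unity are present. -/
theorem card_rN (hn : 1 ≤ n) (hs : ((X ^ Fintype.card F ^ n - X : F[X]).map (algebraMap F L)).Splits) :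
    (rN F L n).card = Fintype.card F ^ n - 1 := by
  classical
  have h1 := one_lt_card_pow (F := F) hn
  set N := Fintype.card F ^ n - 1 with hN
  have hN0 : N ≠ 0 := by omega
  have hne : (X ^ N - 1 : L[X]) ≠ 0 := by
    rw [← C_1]; exact X_pow_sub_C_ne_zero (Nat.pos_of_ne_zero hN0) 1
  have hdvd : (X ^ N - 1 : L[X]) ∣ (X ^ Fintype.card F ^ n - X : F[X]).map (algebraMap F L) :=
    ⟨X, by rw [Polynomial.map_sub, Polynomial.map_pow, Polynomial.map_X, sub_mul, one_mul, ← pow_succ, hN,
      Nat.sub_add_cancel h1.le]⟩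
  have hspl : (X ^ N - 1 : L[X]).Splits := hs.of_dvd (Polynomial.map_ne_zero (FiniteField.X_pow_card_pow_sub_X_ne_zero F (by omega) Fintype.one_lt_card)) hdvd
  have hsep : (X ^ N - 1 : L[X]).Separable := by
    rw [← C_1]
    exact separable_X_pow_sub_C 1 (by rw [hN, natCast_card_pow_sub_one hn]; exact neg_ne_zero.2 one_ne_zero)
      one_ne_zero
  have hr : rN F L n = (X ^ N - 1 : L[X]).roots.toFinset := by
    ext x
    rw [Multiset.mem_toFinset, mem_roots hne, mem_rN]
    simp [hN, sub_eq_zero]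
  rw [hr, Multiset.toFinset_card_of_nodup (nodup_roots hsep), ← hspl.natDegree_eq_card_roots, ← C_1,
    natDegree_X_pow_sub_C]

theorem exists_generator (hn : 1 ≤ n) (hs : ((X ^ Fintype.card F ^ n - X : F[X]).map (algebraMap F L)).Splits) :
    ∃ ζ ∈ rN F L n, orderOf ζ = Fintype.card F ^ n - 1 := by
  classical
  have h1 := one_lt_card_pow (F := F) hn
  set N := Fintype.card F ^ n - 1 with hN
  haveI : NeZero N := ⟨by omega⟩
  obtain ⟨g, hg⟩ := IsCyclic.exists_generator (α := rootsOfUnity N L)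
  have hc : Nat.card (rootsOfUnity N L) = N := by
    refine Eq.trans ?_ ((Nat.card_eq_finsetCard (rN F L n)).trans (card_rN hn hs))
    refine Nat.card_congr
      { toFun := fun u => ⟨((u : Lˣ) : L), mem_rN.2 ((mem_rootsOfUnity' N (u : Lˣ)).1 u.2)⟩
        invFun := fun x => ⟨Units.mk0 x.1 (rN_ne_zero hn x.2),
          (mem_rootsOfUnity' N _).2 (mem_rN.1 x.2)⟩
        left_inv := fun u => Subtype.ext (Units.ext rfl)
        right_inv := fun x => Subtype.ext rfl }
  refine ⟨((g : Lˣ) : L), mem_rN.2 ((mem_rootsOfUnity' N (g : Lˣ)).1 g.2), ?_⟩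
  rw [orderOf_units, Subgroup.orderOf_coe, orderOf_eq_card_of_forall_mem_zpowers hg, hc]

/-- The signed weight. -/
noncomputable def chiC (θ : L → ℂ) (m : ℕ) : GL (Fin m) F → ℂ := fun g => (-1 : ℂ) ^ (m - 1) * cusp θ m g

theorem cusp_one (θ : L →*₀ ℂ) (hn : 1 ≤ n) : cusp (F := F) (⇑θ) n 1 = qP (Fintype.card F) n := by
  classical
  haveI : Nonempty (Fin n) := ⟨⟨0, hn⟩⟩
  set f : (Fin n → F) →ₗ[F] (Fin n → F) := Matrix.toLin' ((1 : GL (Fin n) F) : Matrix (Fin n) (Fin n) F) with hf
  have hf1 : f = LinearMap.id := by rw [hf, Units.val_one, Matrix.toLin'_one]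
  have hkill : ∀ x : Fin n → F, aeval f (X - Polynomial.C 1 : F[X]) x = 0 := fun x => by
    rw [map_sub, aeval_X, aeval_C, map_one, LinearMap.sub_apply, hf1]
    simp
  have hi : Irreducible (X - Polynomial.C 1 : F[X]) := irreducible_X_sub_C 1
  have hprim : IsPrim (X - Polynomial.C 1 : F[X]) (Module.AEval' f) :=
    (isPrim_aeval f _).2 ⟨inferInstance, fun x => ⟨1, by rw [pow_one]; exact hkill x⟩⟩
  have hkc : kc (X - Polynomial.C 1 : F[X]) (Module.AEval' f) = Fintype.card F ^ n := by
    have htop : Submodule.torsionBy F[X] (Module.AEval' f) (X - Polynomial.C 1) = ⊤ := eq_top_iff.2 fun m _ => by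
      obtain ⟨x, rfl⟩ := (Module.AEval'.of f).surjective m
      rw [Submodule.mem_torsionBy_iff, ← Module.AEval.of_aeval_smul]
      show Module.AEval'.of f (aeval f (X - Polynomial.C 1 : F[X]) x) = 0
      rw [hkill, map_zero]
    rw [kc, htop, Nat.card_congr (Submodule.topEquiv.toEquiv.trans (Module.AEval'.of f).toEquiv.symm),
      Nat.card_fun, Nat.card_eq_fintype_card (α := Fin n), Fintype.card_fin, Nat.card_eq_fintype_card]
  have hq : qDeg (X - Polynomial.C 1 : F[X]) = Fintype.card F := by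
    rw [qDeg, natDegree_X_sub_C, pow_one]
  show phi F (⇑θ) (Module.AEval' f) = _
  rw [phi_eq (⇑θ) (monic_X_sub_C 1) hi hprim, hkc, hq, qC_pow Fintype.one_lt_card, rootSum,
    Polynomial.map_sub, Polynomial.map_X, Polynomial.map_C, map_one, roots_X_sub_C]
  simp

theorem chiC_one (θ : L →*₀ ℂ) (hn : 1 ≤ n) :
    chiC (F := F) (⇑θ) n 1 = ∏ i ∈ Finset.Ico 1 n, ((Fintype.card F : ℂ) ^ i - 1) := by
  rw [chiC, cusp_one θ hn, qP]
  rw [show n - 1 = (Finset.Ico 1 n).card from (Nat.card_Ico 1 n).symm, ← Finset.prod_const,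
    ← Finset.prod_mul_distrib]
  exact Finset.prod_congr rfl fun i _ => by ring

theorem classInner_chiC [DecidableEq F] (θ θ' : L → ℂ) :
    classInner (chiC (F := F) θ n) (chiC θ' n) = classInner (cusp (F := F) θ n) (cusp θ' n) := by
  rw [classInner, classInner]
  congr 1
  refine Finset.sum_congr rfl fun g _ => ?_
  rw [chiC, chiC, map_mul, map_pow, map_neg, map_one]
  have h : ((-1 : ℂ) ^ (n - 1)) * (-1) ^ (n - 1) = 1 := by rw [← mul_pow]; simp
  linear_combination (cusp θ n g * conj (cusp θ' n g)) * h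

/-- The inner products of the signed weights. -/
theorem classInner_thetaPow [DecidableEq F] (hn : 1 ≤ n)
    (hs : ((X ^ Fintype.card F ^ n - X : F[X]).map (algebraMap F L)).Splits)
    (θ : L →*₀ ℂ) (hθ : Function.Injective θ) (a b : ℕ) (ha : a ≠ 0) (hb : b ≠ 0) :
    classInner (chiC (F := F) (⇑(thetaPow θ a ha)) n) (chiC (⇑(thetaPow θ b hb)) n) =
      (((Finset.range n).filter fun i =>
        Fintype.card F ^ i * a ≡ b [MOD Fintype.card F ^ n - 1]).card : ℂ) := by
  classical
  have h1 := one_lt_card_pow (F := F) hn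
  obtain ⟨ζ, hζ, hord⟩ := exists_generator (L := L) hn hs
  have hG : (Nat.card (GL (Fin n) F) : ℂ) ≠ 0 := Nat.cast_ne_zero.2 Nat.card_pos.ne'
  have hqn : ((Fintype.card F : ℂ) ^ n - 1) = ((Fintype.card F ^ n - 1 : ℕ) : ℂ) := by
    rw [Nat.cast_sub h1.le]; push_cast; rfl
  have hN : ((Fintype.card F ^ n - 1 : ℕ) : ℂ) ≠ 0 := Nat.cast_ne_zero.2 (by omega)
  rw [classInner_chiC, classInner, sum_cusp_mul_conj]
  refine mul_left_cancel₀ hN ?_
  rw [← mul_assoc, mul_comm ((Fintype.card F ^ n - 1 : ℕ) : ℂ) _, mul_assoc, ← hqn,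
    sum_cusp_trace hn, ← mul_assoc, inv_mul_cancel₀ hG, one_mul, sum_cPolys (L := L) hn, hqn]
  simp only [sN, Finset.sum_mul]
  rw [Finset.sum_comm, Finset.card_filter, Nat.cast_sum, Finset.mul_sum]
  refine Finset.sum_congr rfl fun i _ => ?_
  have key := sum_rN_orth hn θ (thetaPow θ b hb) (Fintype.card F ^ i * a) (F := F)
  have hl : ∀ x : L, θ (x ^ (Fintype.card F ^ i * a)) = thetaPow θ a ha (x ^ Fintype.card F ^ i) := fun x => by
    show _ = θ ((x ^ Fintype.card F ^ i) ^ a)
    rw [pow_mul]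
  simp only [← hl]
  rw [key]
  have hiff : (∀ x ∈ rN F L n, θ (x ^ (Fintype.card F ^ i * a)) = thetaPow θ b hb x) ↔
      Fintype.card F ^ i * a ≡ b [MOD Fintype.card F ^ n - 1] := by
    constructor
    · intro h
      have h' : ζ ^ (Fintype.card F ^ i * a) = ζ ^ b := hθ (h ζ hζ)
      rw [← hord]
      have hu : (Units.mk0 ζ (rN_ne_zero hn hζ)) ^ (Fintype.card F ^ i * a) =
          (Units.mk0 ζ (rN_ne_zero hn hζ)) ^ b := Units.ext (by simpa using h')
      have := pow_eq_pow_iff_modEq.1 hu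
      rwa [← orderOf_units, Units.val_mk0] at this
    · intro h x hx
      show θ _ = θ (x ^ b)
      rw [pow_eq_pow_mod _ (mem_rN.1 hx), h, ← pow_eq_pow_mod _ (mem_rN.1 hx)]
  by_cases h : Fintype.card F ^ i * a ≡ b [MOD Fintype.card F ^ n - 1]
  · rw [if_pos h, if_pos (hiff.2 h), card_rN hn hs, Nat.cast_one, mul_one]
  · rw [if_neg h, if_neg (fun h' => h (hiff.1 h')), Nat.cast_zero, mul_zero]

/-- The cuspidality. -/
theorem sum_radical [DecidableEq F] (θ : L → ℂ) {m : ℕ} (hm : 0 < m) (hmn : m < n)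
    [∀ g : GL (Fin n) F, Decidable (∀ i j : Fin n, ¬ (i.val < m ∧ m ≤ j.val) →
      (g : Matrix (Fin n) (Fin n) F) i j = (1 : Matrix (Fin n) (Fin n) F) i j)] :
    (∑ g : GL (Fin n) F, if (∀ i j : Fin n, ¬ (i.val < m ∧ m ≤ j.val) →
      (g : Matrix (Fin n) (Fin n) F) i j = (1 : Matrix (Fin n) (Fin n) F) i j) then chiC θ n g else 0) = 0 := by
  classical
  let W : Submodule F (Fin n → F) :=
    { carrier := {x | ∀ i : Fin n, m ≤ i.val → x i = 0}
      add_mem' := fun {a b} ha hb i hi => by simp [ha i hi, hb i hi]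
      zero_mem' := fun i _ => rfl
      smul_mem' := fun c {a} ha i hi => by simp [ha i hi] }
  have hs : W ≤ W.comap (LinearMap.id : (Fin n → F) →ₗ[F] (Fin n → F)) := fun x hx => hx
  haveI : Finite (((Fin n → F) ⧸ W) →ₗ[F] W) :=
    Finite.of_injective (fun f : ((Fin n → F) ⧸ W) →ₗ[F] W => (f : ((Fin n → F) ⧸ W) → W)) DFunLike.coe_injective
  letI : Fintype (((Fin n → F) ⧸ W) →ₗ[F] W) := Fintype.ofFinite _
  have hW0 : W ≠ ⊥ := fun h => by
    have hmem : (Pi.single (⟨0, by omega⟩ : Fin n) (1 : F) : Fin n → F) ∈ W := fun i hi => by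
      apply Pi.single_eq_of_ne
      intro he; rw [he] at hi; simp at hi; omega
    rw [h, Submodule.mem_bot] at hmem
    simpa using congrFun hmem ⟨0, by omega⟩
  have hW1 : W ≠ ⊤ := fun h => by
    have hmem : (Pi.single (⟨m, hmn⟩ : Fin n) (1 : F) : Fin n → F) ∈ W := h ▸ Submodule.mem_top
    simpa using hmem ⟨m, hmn⟩ le_rfl
  have hdet : ∀ u, (LinearMap.toMatrix' (shift W LinearMap.id u)).det ≠ 0 := fun u => by
    rw [Matrix.det_eq_sign_charpoly_coeff, ← Matrix.charpoly_toLin', Matrix.toLin'_toMatrix', charpoly_shift hs u,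
      ← Matrix.toLin'_one, Matrix.charpoly_toLin', ← Matrix.det_eq_sign_charpoly_coeff, Matrix.det_one]
    exact one_ne_zero
  have hent : ∀ (A : Matrix (Fin n) (Fin n) F) (x : Fin n → F) (i : Fin n),
      Matrix.toLin' A x i = ∑ j, A i j * x j := fun A x i => rfl
  rw [← Finset.sum_filter]
  have hz := sum_shift_eq_zero θ W LinearMap.id hs hW0 hW1
  symm
  rw [show (0 : ℂ) = (-1) ^ (n - 1) * ∑ u, phi F θ (Module.AEval' (shift W LinearMap.id u)) by rw [hz, mul_zero],
    Finset.mul_sum]
  refine Finset.sum_bij (fun u _ => Matrix.GeneralLinearGroup.mkOfDetNeZero _ (hdet u)) (fun u _ => ?_)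
    (fun u _ u' _ he => ?_) (fun g hg => ?_) (fun u _ => ?_)
  · refine Finset.mem_filter.2 ⟨Finset.mem_univ _, fun i j hij => ?_⟩
    show LinearMap.toMatrix' (shift W LinearMap.id u) i j = _
    have hzero : ((u (W.mkQ (Pi.single j 1)) : W) : Fin n → F) i = 0 := by
      by_cases hi : i.val < m
      · have hj : (Pi.single j 1 : Fin n → F) ∈ W := fun k hk => Pi.single_eq_of_ne (fun he => by
          have hj' : ¬ m ≤ j.val := fun h => hij ⟨hi, h⟩
          rw [he] at hk
          exact hj' hk) 1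
        rw [Submodule.mkQ_apply, (Submodule.Quotient.mk_eq_zero W).2 hj, map_zero]
        rfl
      · exact (u (W.mkQ (Pi.single j 1))).2 i (not_lt.1 hi)
    rw [LinearMap.toMatrix'_apply]
    simp only [shift, LinearMap.add_apply, LinearMap.id_coe, id_eq, Pi.add_apply, LinearMap.comp_apply,
      Submodule.subtype_apply]
    rw [Matrix.one_apply]
    by_cases hij' : i = j
    · subst hij'
      rw [if_pos rfl, hzero]
      simp
    · rw [if_neg hij', hzero]
      simp [hij']
  · have h1 : shift W LinearMap.id u = shift W LinearMap.id u' :=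
      LinearMap.toMatrix'.injective (congrArg Units.val he)
    refine Submodule.linearMap_qext _ (LinearMap.ext fun x => Subtype.ext ?_)
    have := LinearMap.congr_fun h1 x
    simpa [shift] using this
  · have hg' := (Finset.mem_filter.1 hg).2
    set d := Matrix.toLin' (g : Matrix (Fin n) (Fin n) F) - LinearMap.id with hd
    have hdW : ∀ x, d x ∈ W := fun x i hi => by
      show Matrix.toLin' (g : Matrix (Fin n) (Fin n) F) x i - x i = 0
      rw [hent, Finset.sum_congr rfl (fun j _ => by rw [hg' i j fun h => absurd h.1 (not_lt.2 hi)] :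
        ∀ j ∈ (Finset.univ : Finset (Fin n)), (g : Matrix (Fin n) (Fin n) F) i j * x j =
          (1 : Matrix (Fin n) (Fin n) F) i j * x j)]
      simp [Matrix.one_apply]
    have hker : W ≤ LinearMap.ker (d.codRestrict W hdW) := fun x hx => by
      rw [LinearMap.mem_ker]
      refine Subtype.ext (funext fun i => ?_)
      show Matrix.toLin' (g : Matrix (Fin n) (Fin n) F) x i - x i = 0
      rw [hent, Finset.sum_congr rfl (fun j _ => ?_ : ∀ j ∈ (Finset.univ : Finset (Fin n)),
        (g : Matrix (Fin n) (Fin n) F) i j * x j = (1 : Matrix (Fin n) (Fin n) F) i j * x j)]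
      · simp [Matrix.one_apply]
      · by_cases hj : m ≤ j.val
        · rw [hx j hj, mul_zero, mul_zero]
        · rw [hg' i j fun h => hj h.2]
    refine ⟨W.liftQ (d.codRestrict W hdW) hker, Finset.mem_univ _, Units.ext ?_⟩
    show LinearMap.toMatrix' (shift W LinearMap.id _) = _
    refine Matrix.toLin'.injective (LinearMap.ext fun x => ?_)
    rw [Matrix.toLin'_toMatrix']
    simp [shift, hd]
  · show _ = (-1 : ℂ) ^ (n - 1) * phi F θ (Module.AEval' (Matrix.toLin' (LinearMap.toMatrix'
      (shift W LinearMap.id u))))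
    rw [Matrix.toLin'_toMatrix']

/-- The construction. -/
theorem card_cuspidal [DecidableEq F] (hn : 2 ≤ n) (L : Type u) [Field L] [Fintype L] [Algebra F L]
    (hL : ∀ a ≤ n, ∀ A : Matrix (Fin a) (Fin a) F, (A.charpoly.map (algebraMap F L)).Splits)
    (hX : ((X ^ Fintype.card F ^ n - X : F[X]).map (algebraMap F L)).Splits)
    (S : Set (IrrCharacter (GL (Fin n) F)))
    (hS : ∀ (θ : L → ℂ) (χ : IrrCharacter (GL (Fin n) F)), (χ : GL (Fin n) F → ℂ) = chiC θ n →
      chiC (F := F) θ n 1 = ∏ i ∈ Finset.Ico 1 n, ((Fintype.card F : ℂ) ^ i - 1) → χ ∈ S) :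
    Nat.totient (Fintype.card F ^ n - 1) / n ≤ Nat.card S := by
  classical
  have hn1 : 1 ≤ n := by omega
  have h1 := one_lt_card_pow (F := F) hn1
  set N := Fintype.card F ^ n - 1 with hNdef
  haveI : NeZero N := ⟨by omega⟩
  haveI : NeZero (Nat.card Lˣ) := ⟨Nat.card_pos.ne'⟩
  obtain ⟨θ, hθ⟩ := exists_injective_theta L
  obtain ⟨ζ, hζ, hord⟩ := exists_generator (L := L) hn1 hX
  have hNM : N ∣ Nat.card Lˣ := by
    have := orderOf_dvd_natCard (Units.mk0 ζ (rN_ne_zero hn1 hζ))
    rwa [← orderOf_units, Units.val_mk0, hord] at this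
  have hM1 : Nat.card Lˣ ≠ 1 := fun h => by
    rw [h] at hNM
    have hN1 := Nat.le_of_dvd one_pos hNM
    have : Fintype.card F ^ 2 ≤ Fintype.card F ^ n := Nat.pow_le_pow_right Fintype.card_pos hn
    have h2 := Fintype.one_lt_card (α := F)
    have h3 : 4 ≤ Fintype.card F ^ 2 := by nlinarith
    omega
  have hlift : ∀ a : (ZMod N)ˣ, ∃ e : ℕ, e.Coprime (Nat.card Lˣ) ∧ e ≠ 0 ∧ (e : ZMod N) = a := by
    intro a
    obtain ⟨au, hau⟩ := ZMod.unitsMap_surjective hNM a
    refine ⟨(au : ZMod (Nat.card Lˣ)).val, ZMod.val_coe_unit_coprime au, fun h0 => hM1 ?_, ?_⟩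
    · have hco := ZMod.val_coe_unit_coprime au
      rwa [h0, Nat.coprime_zero_left] at hco
    · rw [← hau, ZMod.natCast_val, ZMod.unitsMap_val]
  choose e hco hne hcast using hlift
  let χ : (ZMod N)ˣ → GL (Fin n) F → ℂ := fun a => chiC (⇑(thetaPow θ (e a) (hne a))) n
  have hinner : ∀ a b, classInner (χ a) (χ b) = (((Finset.range n).filter fun i =>
      ((Fintype.card F : ZMod N) ^ i * (a : ZMod N)) = (b : ZMod N)).card : ℂ) := by
    intro a b
    rw [classInner_thetaPow hn1 hX θ hθ]
    congr 2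
    refine Finset.filter_congr fun i _ => ?_
    rw [← ZMod.natCast_eq_natCast_iff, ← hcast a, ← hcast b]
    push_cast
    rfl
  have hone : ∀ a, classInner (χ a) (χ a) = 1 := by
    intro a
    rw [hinner]
    have : (Finset.range n).filter (fun i => ((Fintype.card F : ZMod N) ^ i * (a : ZMod N)) = (a : ZMod N)) = {0} := by
      ext i
      rw [Finset.mem_filter, Finset.mem_range, Finset.mem_singleton]
      constructor
      · rintro ⟨hi, hq⟩
        have hq1 : ((Fintype.card F : ZMod N) ^ i) = 1 := by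
          have := congrArg (fun z => z * ((a⁻¹ : (ZMod N)ˣ) : ZMod N)) hq
          simpa [mul_assoc] using this
        rw [← Nat.cast_pow, ← Nat.cast_one, ZMod.natCast_eq_natCast_iff] at hq1
        by_contra hi0
        have hqi : 1 < Fintype.card F ^ i := Nat.one_lt_pow hi0 Fintype.one_lt_card
        have hle : Fintype.card F ^ i ≤ Fintype.card F ^ (n - 1) :=
          Nat.pow_le_pow_right Fintype.card_pos (by omega)
        have hmul : Fintype.card F ^ (n - 1) * 2 ≤ Fintype.card F ^ n :=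
          (Nat.mul_le_mul_left _ Fintype.one_lt_card).trans_eq (by rw [← pow_succ, Nat.sub_add_cancel hn1])
        exact hqi.ne' (hq1.eq_of_lt_of_lt (by omega) (by omega))
      · rintro rfl
        exact ⟨by omega, by simp⟩
    rw [this]
    simp
  have hval : ∀ a, χ a 1 = ∏ i ∈ Finset.Ico 1 n, ((Fintype.card F : ℂ) ^ i - 1) := fun a =>
    chiC_one (thetaPow θ (e a) (hne a)) hn1
  have hirr : ∀ a, IsIrrCharacter (GL (Fin n) F) (χ a) := by
    intro a
    have hgen : IsGeneralizedCharacter (GL (Fin n) F) (χ a) := by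
      have hc := cusp_gen (thetaPow θ (e a) (hne a)) (thetaPow_injective θ hθ _ _ (hco a)) hL n le_rfl
      rcases neg_one_pow_eq_or ℂ (n - 1) with h | h
      · have hχ : χ a = cusp (⇑(thetaPow θ (e a) (hne a))) n := funext fun g => by
          show chiC _ n g = _
          rw [chiC, h, one_mul]
        rw [hχ]; exact hc
      · have hχ : χ a = -cusp (⇑(thetaPow θ (e a) (hne a))) n := funext fun g => by
          show chiC _ n g = _
          rw [chiC, h, neg_one_mul]; rfl
        rw [hχ]; exact IsGenChar.neg hc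
    refine (IsGenChar.norm_one hgen (hone a)).resolve_right fun hneg => ?_
    obtain ⟨d, ρ, -, hρ⟩ := hneg
    have h0 := congrFun hρ 1
    rw [Representation.char_one, Pi.neg_apply, hval,
      show ∏ i ∈ Finset.Ico 1 n, ((Fintype.card F : ℂ) ^ i - 1) =
        ((∏ i ∈ Finset.Ico 1 n, (Fintype.card F ^ i - 1) : ℕ) : ℂ) by
          push_cast [Nat.cast_prod]
          exact Finset.prod_congr rfl fun i _ => by
            rw [Nat.cast_sub (Nat.one_le_pow _ _ Fintype.card_pos)]; push_cast; rfl,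
      eq_neg_iff_add_eq_zero, ← Nat.cast_add, Nat.cast_eq_zero] at h0
    have hpos : 0 < ∏ i ∈ Finset.Ico 1 n, (Fintype.card F ^ i - 1) := Finset.prod_pos fun i hi => by
      have := Nat.one_lt_pow (n := i) (by rw [Finset.mem_Ico] at hi; omega) (Fintype.one_lt_card (α := F))
      omega
    omega
  let f : (ZMod N)ˣ → S := fun a => ⟨⟨χ a, hirr a⟩, hS _ _ rfl (hval a)⟩
  have hfib : ∀ b ∈ (Finset.univ : Finset (ZMod N)ˣ).image f,
      ((Finset.univ : Finset (ZMod N)ˣ).filter fun a => f a = b).card ≤ n := by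
    intro b hb
    obtain ⟨a, -, rfl⟩ := Finset.mem_image.1 hb
    refine le_trans ?_ (le_of_eq (Finset.card_range n))
    refine Finset.card_le_card_of_surjOn (fun i => if h : ∃ c : (ZMod N)ˣ,
      (c : ZMod N) = (Fintype.card F : ZMod N) ^ i * (a : ZMod N) then h.choose else a) ?_
    intro c hc
    have hc' : χ c = χ a := congrArg (fun z : S => (z.1 : GL (Fin n) F → ℂ)) (Finset.mem_filter.1 hc).2
    have h := hone a
    nth_rw 2 [← hc'] at h
    rw [hinner, Nat.cast_eq_one, Finset.card_eq_one] at h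
    obtain ⟨i, hi⟩ := h
    have hmem := hi ▸ Finset.mem_singleton_self i
    rw [Finset.mem_filter] at hmem
    refine ⟨i, hmem.1, ?_⟩
    have hex : ∃ c : (ZMod N)ˣ, (c : ZMod N) = (Fintype.card F : ZMod N) ^ i * (a : ZMod N) := ⟨c, hmem.2.symm⟩
    show (if h : ∃ c : (ZMod N)ˣ, (c : ZMod N) = (Fintype.card F : ZMod N) ^ i * (a : ZMod N)
      then h.choose else a) = c
    rw [dif_pos hex]
    exact Units.ext (hex.choose_spec.trans hmem.2)
  have hcard := Finset.card_le_mul_card_image (Finset.univ : Finset (ZMod N)ˣ) n hfib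
  rw [Finset.card_univ, ZMod.card_units_eq_totient] at hcard
  haveI : Finite S := Subtype.finite
  letI : Fintype S := Fintype.ofFinite _
  refine Nat.div_le_of_le_mul (hcard.trans (Nat.mul_le_mul_left n ?_))
  rw [Nat.card_eq_fintype_card]
  exact Finset.card_le_univ _

/-- Packaging of a finite extension. -/
theorem ext_intro (L : Type u) [Field L] [Algebra F L] [Finite L] (P : F[X]) (hP : P ≠ 0)
    (hs : (P.map (algebraMap F L)).Splits) :
    ∃ (L : Type u) (_ : Field L) (_ : Fintype L) (_ : Algebra F L),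
      ∀ f : F[X], f ∣ P → (f.map (algebraMap F L)).Splits :=
  ⟨L, inferInstance, Fintype.ofFinite _, inferInstance, fun _ hf =>
    hs.of_dvd (Polynomial.map_ne_zero hP) (Polynomial.map_dvd _ hf)⟩

/-- A finite extension splitting all characteristic polynomials up to degree `n`. -/
theorem exists_ext [DecidableEq F] (hn : 1 ≤ n) :
    ∃ (L : Type u) (_ : Field L) (_ : Fintype L) (_ : Algebra F L),
      (∀ a ≤ n, ∀ A : Matrix (Fin a) (Fin a) F, (A.charpoly.map (algebraMap F L)).Splits) ∧
      ((X ^ Fintype.card F ^ n - X : F[X]).map (algebraMap F L)).Splits := by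
  classical
  obtain ⟨P, hP, hd1, hd2⟩ : ∃ P : F[X], P ≠ 0 ∧ (∀ b : Fin (n + 1), ∀ A : Matrix (Fin b) (Fin b) F, A.charpoly ∣ P) ∧
      (X ^ Fintype.card F ^ n - X : F[X]) ∣ P := by
    refine ⟨(∏ a : Fin (n + 1), ∏ A : Matrix (Fin a) (Fin a) F, A.charpoly) * (X ^ Fintype.card F ^ n - X),
      mul_ne_zero (Finset.prod_ne_zero_iff.2 fun a _ => Finset.prod_ne_zero_iff.2 fun A _ =>
        (Matrix.charpoly_monic A).ne_zero)
        (FiniteField.X_pow_card_pow_sub_X_ne_zero F (by omega) Fintype.one_lt_card),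
      fun b A => Dvd.dvd.mul_right ?_ _, dvd_mul_left _ _⟩
    have h1 := Finset.dvd_prod_of_mem (fun B : Matrix (Fin b) (Fin b) F => B.charpoly) (Finset.mem_univ A)
    have h2 := Finset.dvd_prod_of_mem (fun c : Fin (n + 1) => ∏ B : Matrix (Fin c) (Fin c) F, B.charpoly)
      (Finset.mem_univ b)
    exact h1.trans h2
  haveI : Finite P.SplittingField := Module.finite_of_finite F
  obtain ⟨K, iF, iT, iA, hK⟩ := ext_intro P.SplittingField P hP (SplittingField.splits P)
  exact ⟨K, iF, iT, iA, fun a ha A => hK _ (hd1 ⟨a, Nat.lt_succ_of_le ha⟩ A), hK _ hd2⟩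

end Cfsg.Agent.GLCusp
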