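import Cfsg.Agent.Lib.Transfer.Cuspidal.SubmoduleSum
import Mathlib

/-!
Cuspidality: the weights sum to zero over the endomorphisms with given action on an invariant
subspace and on the quotient by it.
-/

set_option autoImplicit false
set_option linter.unusedSectionVars false

namespace Cfsg.Agent.GLCusp

open Polynomial

universe u v w

instance finite_aeval {R : Type u} [CommSemiring R] {M : Type v} [AddCommMonoid M] [Module R M] [Finite M]
    (f : M →ₗ[R] M) : Finite (Module.AEval' f) :=
  Finite.of_equiv M (Module.AEval'.of f).toEquiv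

/-- Summing `qP` over the homomorphisms between two spaces. -/
theorem sum_hom_eq_zero {K : Type*} [Field K] [Fintype K] {B : Type*} [AddCommGroup B] [Module K B]
    [Finite B] {A : Type*} [AddCommGroup A] [Module K A] [Finite A] [Fintype (B →ₗ[K] A)]
    (hA : 0 < Module.finrank K A) (hB : 0 < Module.finrank K B) :
    ∑ f : B →ₗ[K] A, qP (Fintype.card K) (Module.finrank K A + Module.finrank K (LinearMap.ker f)) = 0 := by
  classical
  haveI := Fintype.ofFinite A
  haveI : Module.Finite K B := Module.Finite.of_finite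
  set b := Module.finBasis K B with hb
  rw [← sum_tuples_eq_zero (K := K) hA (Module.finrank K B) hB]
  refine (Fintype.sum_equiv (b.constr K).toEquiv _ _ fun v => ?_).symm
  congr 1
  have h := LinearMap.finrank_range_add_finrank_ker (b.constr K v)
  rw [Module.Basis.constr_range] at h
  show _ = _ + Module.finrank K (LinearMap.ker (b.constr K v))
  omega

variable {F : Type u} [Field F] [Fintype F] {L : Type w} [Field L] [Algebra F L]
variable {V : Type v} [AddCommGroup V] [Module F V] [Finite V]

/-- The action of the residue field. -/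
abbrev resModule {R : Type u} [CommRing R] (M : Type v) [AddCommGroup M] [Module R M] (p : R)
    (h : Module.IsTorsionBy R M p) : Module (R ⧸ Ideal.span {p}) M :=
  ((Module.isTorsionBySet_span_singleton_iff p).2 h).module

/-- Adding a map from the quotient into the subspace. -/
def shift (W : Submodule F V) (s : V →ₗ[F] V) (u : (V ⧸ W) →ₗ[F] W) : V →ₗ[F] V :=
  s + W.subtype ∘ₗ u ∘ₗ W.mkQ

theorem shift_apply_mem (W : Submodule F V) (s : V →ₗ[F] V) (u : (V ⧸ W) →ₗ[F] W) {x : V} (hx : x ∈ W) :
    shift W s u x = s x := by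
  simp [shift, (Submodule.Quotient.mk_eq_zero W).2 hx]

theorem shift_le_comap {W : Submodule F V} {s : V →ₗ[F] V} (hs : W ≤ W.comap s)
    (u : (V ⧸ W) →ₗ[F] W) : W ≤ W.comap (shift W s u) := fun x hx => by
  rw [Submodule.mem_comap, shift_apply_mem W s u hx]; exact hs hx

theorem mkQ_shift (W : Submodule F V) (s : V →ₗ[F] V) (u : (V ⧸ W) →ₗ[F] W) (x : V) :
    W.mkQ (shift W s u x) = W.mkQ (s x) := by
  simp only [shift, LinearMap.add_apply, map_add, LinearMap.comp_apply, Submodule.subtype_apply,
    Submodule.mkQ_apply]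
  rw [(Submodule.Quotient.mk_eq_zero W).2 (u _).2, add_zero]

/-- The first order expansion of `f (shift u)`. -/
theorem exists_expansion {W : Submodule F V} {s : V →ₗ[F] V} (hs : W ≤ W.comap s) (f : F[X]) :
    ∃ D : ((V ⧸ W) →ₗ[F] W) →+ ((V ⧸ W) →ₗ[F] W),
      (∀ u v, aeval (shift W s u) f v = aeval s f v + (D u (W.mkQ v) : V)) ∧
      ∀ (S : Submodule F (V ⧸ W)) (Z : Submodule F W) (φ : (V ⧸ W) →ₗ[F] W),
        (∀ b ∈ S, W.mapQ W s hs b ∈ S) → (∀ z ∈ Z, s.restrict hs z ∈ Z) →
        (∀ b ∈ S, φ (W.mapQ W s hs b) - s.restrict hs (φ b) ∈ Z) →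
        ∀ b ∈ S, D φ b - φ (aeval (W.mapQ W s hs) (derivative f) b) ∈ Z := by
  induction f using Polynomial.induction_on with
  | C a =>
    refine ⟨0, fun u v => by simp, fun S Z φ _ _ _ b _ => ?_⟩
    simp
  | add f g hf hg =>
    obtain ⟨D, hD, hD'⟩ := hf
    obtain ⟨E, hE, hE'⟩ := hg
    refine ⟨D + E, fun u v => ?_, fun S Z φ h1 h2 h3 b hb => ?_⟩
    · simp only [map_add, LinearMap.add_apply, hD, hE, AddMonoidHom.add_apply, Submodule.coe_add]
      abel
    · have := Z.add_mem (hD' S Z φ h1 h2 h3 b hb) (hE' S Z φ h1 h2 h3 b hb)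
      simp only [map_add, LinearMap.add_apply, AddMonoidHom.add_apply]
      convert this using 1
      abel
  | monomial n a hf =>
    obtain ⟨D, hD, hD'⟩ := hf
    set f := C a * X ^ n with hfdef
    have hXf : C a * X ^ (n + 1) = X * f := by rw [hfdef, pow_succ]; ring
    rw [hXf]
    set sQ := W.mapQ W s hs with hsQ
    refine ⟨{ toFun := fun u => (s.restrict hs).comp (D u) + u.comp (aeval sQ f)
              map_zero' := by simp
              map_add' := fun u u' => by
                simp only [map_add, LinearMap.comp_add, LinearMap.add_comp]; abel },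
      fun u v => ?_, fun S Z φ h1 h2 h3 b hb => ?_⟩
    · have hq : W.mkQ (aeval (shift W s u) f v) = aeval sQ f (W.mkQ v) := by
        rw [hD, map_add, Submodule.mkQ_apply _ (D u _ : V),
          (Submodule.Quotient.mk_eq_zero W).2 (D u _).2, add_zero]
        exact aeval_mkQ W hs f v
      rw [map_mul (aeval (shift W s u)) X f, map_mul (aeval s) X f, aeval_X, aeval_X, Module.End.mul_apply,
        Module.End.mul_apply]
      have hstep : ∀ y : V, shift W s u y = s y + (u (W.mkQ y) : V) := fun _ => rfl
      rw [hstep, hq, hD, map_add]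
      simp only [AddMonoidHom.coe_mk, ZeroHom.coe_mk, LinearMap.add_apply, LinearMap.comp_apply,
        Submodule.coe_add, LinearMap.restrict_apply, add_assoc]
    · have hSf : ∀ g : F[X], ∀ b ∈ S, aeval sQ g b ∈ S := fun g => aeval_mem sQ h1 g
      have hcomm : φ (aeval sQ (derivative f) b) ∈ (⊤ : Submodule F W) := trivial
      have h := Z.add_mem (h2 _ (hD' S Z φ h1 h2 h3 b hb))
        (Z.neg_mem (h3 _ (hSf (derivative f) b hb)))
      simp only [AddMonoidHom.coe_mk, ZeroHom.coe_mk, LinearMap.add_apply, LinearMap.comp_apply]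
      rw [derivative_mul, derivative_X, one_mul, map_add, map_mul (aeval sQ) X (derivative f), aeval_X,
        LinearMap.add_apply, Module.End.mul_apply, map_add]
      convert h using 1
      rw [map_sub]
      abel
where
  aeval_mkQ (W : Submodule F V) {s : V →ₗ[F] V} (hs : W ≤ W.comap s) (f : F[X]) (v : V) :
      W.mkQ (aeval s f v) = aeval (W.mapQ W s hs) f (W.mkQ v) := by
    induction f using Polynomial.induction_on generalizing v with
    | C a => simp [Module.algebraMap_end_apply]
    | add f g hf hg => simp only [map_add, LinearMap.add_apply, hf, hg]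
    | monomial n a hf =>
      rw [pow_succ', mul_left_comm, map_mul (aeval s) X, map_mul (aeval (W.mapQ W s hs)) X, aeval_X, aeval_X,
        Module.End.mul_apply, Module.End.mul_apply, ← hf]
      rfl
  aeval_mem {V' : Type v} [AddCommGroup V'] [Module F V'] (g : V' →ₗ[F] V') {S : Submodule F V'}
      (h : ∀ b ∈ S, g b ∈ S) (f : F[X]) : ∀ b ∈ S, aeval g f b ∈ S := by
    induction f using Polynomial.induction_on with
    | C a => intro b hb; simpa [Module.algebraMap_end_apply] using S.smul_mem a hb
    | add f f' hf hg => intro b hb; rw [map_add]; exact S.add_mem (hf b hb) (hg b hb)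
    | monomial n a hf =>
      intro b hb
      rw [pow_succ, ← mul_assoc, map_mul, aeval_X]
      exact hf _ (h b hb)

theorem aeval_restrict (W : Submodule F V) {s : V →ₗ[F] V} (hs : W ≤ W.comap s) (f : F[X]) (x : W) :
    (aeval (s.restrict hs) f x : V) = aeval s f (x : V) := by
  induction f using Polynomial.induction_on generalizing x with
  | C a => simp [Module.algebraMap_end_apply]
  | add f g hf hg => simp only [map_add, LinearMap.add_apply, Submodule.coe_add, hf, hg]
  | monomial n a hf =>
    rw [pow_succ', mul_left_comm, map_mul (aeval s) X, map_mul (aeval (s.restrict hs)) X, aeval_X, aeval_X,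
      Module.End.mul_apply, Module.End.mul_apply, ← hf]
    rfl

theorem isPrim_aeval {W : Type v} [AddCommGroup W] [Module F W] (f : W →ₗ[F] W) (p : F[X]) :
    IsPrim p (Module.AEval' f) ↔ Nontrivial W ∧ ∀ x : W, ∃ N : ℕ, aeval f (p ^ N) x = 0 := by
  refine and_congr ((Module.AEval'.of f).toEquiv.nontrivial_congr.symm) ?_
  constructor
  · intro h x
    refine (h (Module.AEval'.of f x)).imp fun N hN => ?_
    have := congrArg (Module.AEval'.of f).symm hN
    rwa [Module.AEval.of_symm_smul, LinearEquiv.symm_apply_apply, map_zero] at this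
  · intro h m
    refine (h ((Module.AEval'.of f).symm m)).imp fun N hN => ?_
    refine (Module.AEval'.of f).symm.injective ?_
    rw [Module.AEval.of_symm_smul, map_zero]
    exact hN

set_option maxHeartbeats 2000000 in
/-- Cuspidality. -/
theorem sum_shift_eq_zero (θ : L → ℂ) (W : Submodule F V) (s : V →ₗ[F] V) (hs : W ≤ W.comap s)
    (hW0 : W ≠ ⊥) (hW1 : W ≠ ⊤) [Fintype ((V ⧸ W) →ₗ[F] W)] :
    ∑ u : (V ⧸ W) →ₗ[F] W, phi F θ (Module.AEval' (shift W s u)) = 0 := by
  classical
  haveI : Nontrivial W := (Submodule.nontrivial_iff_ne_bot).2 hW0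
  haveI : Nontrivial (V ⧸ W) := Submodule.Quotient.nontrivial_iff.2 hW1
  set sW := s.restrict hs with hsW
  set sQ := W.mapQ W s hs with hsQ
  by_cases hex : ∃ p : F[X], p.Monic ∧ Irreducible p ∧ IsPrim p (Module.AEval' sW) ∧
      IsPrim p (Module.AEval' sQ)
  swap
  · refine Finset.sum_eq_zero fun u _ => phi_eq_zero θ fun p hp hpi hP => hex ⟨p, hp, hpi, ?_, ?_⟩
    · rw [isPrim_aeval]
      refine ⟨inferInstance, fun x => (((isPrim_aeval _ p).1 hP).2 (x : V)).imp fun N hN => ?_⟩
      have he : (shift W s u).restrict (shift_le_comap hs u) = sW :=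
        LinearMap.ext fun y => Subtype.ext (shift_apply_mem W s u y.2)
      refine Subtype.ext ?_
      rw [← he, aeval_restrict, hN]
      rfl
    · rw [isPrim_aeval]
      refine ⟨inferInstance, fun x => ?_⟩
      obtain ⟨y, rfl⟩ := W.mkQ_surjective x
      refine (((isPrim_aeval _ p).1 hP).2 y).imp fun N hN => ?_
      have he : W.mapQ W (shift W s u) (shift_le_comap hs u) = sQ := by
        refine LinearMap.ext fun z => ?_
        obtain ⟨z, rfl⟩ := W.mkQ_surjective z
        exact mkQ_shift W s u z
      rw [← he, ← exists_expansion.aeval_mkQ, hN, map_zero]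
  obtain ⟨p, hp, hpi, hPW, hPQ⟩ := hex
  have hPV : ∀ u, IsPrim p (Module.AEval' (shift W s u)) := by
    intro u
    rw [isPrim_aeval]
    refine ⟨W.nontrivial_iff_ne_bot.2 hW0 |> fun h => ?_, fun v => ?_⟩
    · obtain ⟨x, hx⟩ := exists_ne (0 : W)
      exact ⟨⟨x, 0, fun e => hx (Subtype.ext e)⟩⟩
    · obtain ⟨N, hN⟩ := ((isPrim_aeval _ p).1 hPQ).2 (W.mkQ v)
      have he : W.mapQ W (shift W s u) (shift_le_comap hs u) = sQ := by
        refine LinearMap.ext fun z => ?_
        obtain ⟨z, rfl⟩ := W.mkQ_surjective z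
        exact mkQ_shift W s u z
      rw [← he, ← exists_expansion.aeval_mkQ, Submodule.mkQ_apply, Submodule.Quotient.mk_eq_zero] at hN
      obtain ⟨N', hN'⟩ := ((isPrim_aeval _ p).1 hPW).2 ⟨_, hN⟩
      refine ⟨N' + N, ?_⟩
      have hr : (shift W s u).restrict (shift_le_comap hs u) = sW :=
        LinearMap.ext fun y => Subtype.ext (shift_apply_mem W s u y.2)
      rw [← hr] at hN'
      have := congrArg Subtype.val hN'
      rw [aeval_restrict] at this
      rw [pow_add, map_mul, Module.End.mul_apply]
      simpa using this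
  simp only [fun u => phi_eq θ hp hpi (hPV u), ← Finset.mul_sum]
  refine mul_eq_zero_of_right _ ?_
  -- the residue field
  set A1 := Module.AEval' sW
  set A2 := Module.AEval' sQ
  set K2 := Submodule.torsionBy F[X] A2 p
  set C1 := A1 ⧸ LinearMap.range (LinearMap.lsmul F[X] A1 p)
  obtain ⟨D, hD, hD'⟩ := exists_expansion hs p
  obtain ⟨σ, hσ⟩ := W.mkQ.exists_rightInverse_of_surjective (LinearMap.range_eq_top.2 W.mkQ_surjective)
  have hσ' : ∀ b, W.mkQ (σ b) = b := fun b => LinearMap.congr_fun hσ b
  let toQ : K2 →ₗ[F] (V ⧸ W) :=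
    { toFun := fun b => (Module.AEval'.of sQ).symm (b : A2)
      map_add' := fun a b => map_add (Module.AEval'.of sQ).symm (a : A2) b
      map_smul' := fun c b => map_smul (Module.AEval'.of sQ).symm c (b : A2) }
  have htoQ : ∀ b : K2, aeval sQ p (toQ b) = 0 := fun b => by
    have := congrArg (Module.AEval'.of sQ).symm ((Submodule.mem_torsionBy_iff _ _).1 b.2)
    rwa [Module.AEval.of_symm_smul, map_zero] at this
  have hmemW : ∀ (u) (b : K2), aeval (shift W s u) p (σ (toQ b)) ∈ W := fun u b => by
    rw [← Submodule.Quotient.mk_eq_zero W, ← Submodule.mkQ_apply, hD, map_add, exists_expansion.aeval_mkQ W hs,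
      hσ', Submodule.mkQ_apply _ (D u _ : V), (Submodule.Quotient.mk_eq_zero W).2 (D u _).2, add_zero]
    exact htoQ b
  -- the connecting maps
  let δ : ((V ⧸ W) →ₗ[F] W) → (K2 →ₗ[F[X]] C1) := fun u =>
    { toFun := fun b => Submodule.Quotient.mk (Module.AEval'.of sW ⟨_, hmemW u b⟩)
      map_add' := fun a b => by
        rw [← Submodule.Quotient.mk_add, ← map_add]
        exact congrArg _ (congrArg _ (Subtype.ext (by simp [map_add])))
      map_smul' := fun r b => by
        rw [RingHom.id_apply, ← Submodule.Quotient.mk_smul, Submodule.Quotient.eq, ← Module.AEval.of_aeval_smul,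
          ← map_sub]
        have hdiff : σ (toQ (r • b)) - aeval (shift W s u) r (σ (toQ b)) ∈ W := by
          have he : W.mapQ W (shift W s u) (shift_le_comap hs u) = sQ := by
            refine LinearMap.ext fun z => ?_
            obtain ⟨z, rfl⟩ := W.mkQ_surjective z
            exact mkQ_shift W s u z
          rw [← Submodule.Quotient.mk_eq_zero W, ← Submodule.mkQ_apply, map_sub, hσ',
            exists_expansion.aeval_mkQ W (shift_le_comap hs u), he, hσ']
          exact sub_eq_zero.2 (Module.AEval.of_symm_smul sQ r (b : A2))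
        refine ⟨Module.AEval'.of sW ⟨_, hdiff⟩, ?_⟩
        rw [LinearMap.lsmul_apply, ← Module.AEval.of_aeval_smul]
        refine congrArg _ (Subtype.ext ?_)
        have hr : (shift W s u).restrict (shift_le_comap hs u) = sW :=
          LinearMap.ext fun y => Subtype.ext (shift_apply_mem W s u y.2)
        show (aeval sW p ⟨_, hdiff⟩ : V) = _ - (aeval sW r _ : V)
        rw [← hr, aeval_restrict, aeval_restrict, map_sub, ← Module.End.mul_apply, ← map_mul, mul_comm p r,
          map_mul, Module.End.mul_apply] }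
  have hkc : ∀ u, kc p (Module.AEval' (shift W s u)) =
      kc p A1 * Nat.card (LinearMap.ker (δ u)) := by
    intro u
    let su := shift W s u
    let T := Submodule.torsionBy F[X] (Module.AEval' su) p
    have hr : su.restrict (shift_le_comap hs u) = sW :=
      LinearMap.ext fun y => Subtype.ext (shift_apply_mem W s u y.2)
    have he : W.mapQ W su (shift_le_comap hs u) = sQ := by
      refine LinearMap.ext fun z => ?_
      obtain ⟨z, rfl⟩ := W.mkQ_surjective z
      exact mkQ_shift W s u z
    have hT : ∀ x : T, aeval su p ((Module.AEval'.of su).symm (x : Module.AEval' su)) = 0 := fun x => by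
      have := congrArg (Module.AEval'.of su).symm ((Submodule.mem_torsionBy_iff _ _).1 x.2)
      rwa [Module.AEval.of_symm_smul, map_zero] at this
    let π : T →+ K2 :=
      { toFun := fun x => ⟨Module.AEval'.of sQ (W.mkQ ((Module.AEval'.of su).symm (x : Module.AEval' su))), by
          rw [Submodule.mem_torsionBy_iff, ← Module.AEval.of_aeval_smul, map_eq_zero_iff _ (LinearEquiv.injective _)]
          show aeval sQ p _ = 0
          rw [← he, ← exists_expansion.aeval_mkQ, hT, map_zero]⟩
        map_zero' := Subtype.ext (by simp)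
        map_add' := fun a b => Subtype.ext (by simp) }
    have hto : ∀ x : T, toQ (π x) = W.mkQ ((Module.AEval'.of su).symm (x : Module.AEval' su)) :=
      fun x => LinearEquiv.symm_apply_apply _ _
    have hrange : Nat.card π.range = Nat.card (LinearMap.ker (δ u)) := by
      refine Nat.card_congr (Equiv.subtypeEquivRight fun b => ?_)
      constructor
      · rintro ⟨x, rfl⟩
        rw [LinearMap.mem_ker]
        refine (Submodule.Quotient.mk_eq_zero _).2 ?_
        have hd : σ (toQ (π x)) - (Module.AEval'.of su).symm (x : Module.AEval' su) ∈ W := by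
          rw [← Submodule.Quotient.mk_eq_zero W, ← Submodule.mkQ_apply, map_sub, hσ', hto, sub_self]
        refine ⟨Module.AEval'.of sW ⟨_, hd⟩, ?_⟩
        rw [LinearMap.lsmul_apply, ← Module.AEval.of_aeval_smul]
        refine congrArg _ (Subtype.ext ?_)
        show (aeval sW p _ : V) = aeval su p _
        rw [← hr, aeval_restrict, map_sub, hT, sub_zero]
      · intro hb
        obtain ⟨z, hz⟩ := (Submodule.Quotient.mk_eq_zero _).1 (LinearMap.mem_ker.1 hb)
        obtain ⟨w, rfl⟩ := (Module.AEval'.of sW).surjective z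
        rw [LinearMap.lsmul_apply, ← Module.AEval.of_aeval_smul] at hz
        have hz' : (aeval sW p w : V) = aeval su p (σ (toQ b)) :=
          congrArg Subtype.val ((Module.AEval'.of sW).injective hz)
        refine ⟨⟨Module.AEval'.of su (σ (toQ b) - w), ?_⟩, Subtype.ext ?_⟩
        · rw [Submodule.mem_torsionBy_iff, ← Module.AEval.of_aeval_smul, map_eq_zero_iff _ (LinearEquiv.injective _)]
          show aeval su p _ = 0
          rw [map_sub, ← hz', ← hr, aeval_restrict, sub_self]
        · show Module.AEval'.of sQ (W.mkQ _) = (b : A2)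
          rw [LinearEquiv.symm_apply_apply, map_sub, hσ', Submodule.mkQ_apply,
            (Submodule.Quotient.mk_eq_zero W).2 w.2, sub_zero]
          exact LinearEquiv.apply_symm_apply _ _
    have hker : Nat.card π.ker = kc p A1 := by
      have hmem : ∀ x : π.ker, (Module.AEval'.of su).symm ((x : T) : Module.AEval' su) ∈ W := fun x => by
        rw [← Submodule.Quotient.mk_eq_zero W, ← Submodule.mkQ_apply, ← hto]
        rw [AddMonoidHom.mem_ker.1 x.2, map_zero]
      symm
      refine Nat.card_congr
        { toFun := fun y => ⟨⟨Module.AEval'.of su (((Module.AEval'.of sW).symm (y : A1) : W) : V), ?_⟩, ?_⟩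
          invFun := fun x => ⟨Module.AEval'.of sW ⟨_, hmem x⟩, ?_⟩
          left_inv := fun y => Subtype.ext (LinearEquiv.apply_symm_apply _ _)
          right_inv := fun x => Subtype.ext (Subtype.ext (LinearEquiv.apply_symm_apply _ _)) }
      · have := congrArg (Module.AEval'.of sW).symm ((Submodule.mem_torsionBy_iff _ _).1 y.2)
        rw [Module.AEval.of_symm_smul, map_zero] at this
        rw [Submodule.mem_torsionBy_iff, ← Module.AEval.of_aeval_smul, map_eq_zero_iff _ (LinearEquiv.injective _)]
        show aeval su p _ = 0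
        rw [← aeval_restrict W (shift_le_comap hs u), hr]
        exact congrArg Subtype.val this
      · rw [AddMonoidHom.mem_ker]
        refine Subtype.ext ?_
        show Module.AEval'.of sQ (W.mkQ _) = 0
        rw [LinearEquiv.symm_apply_apply, Submodule.mkQ_apply,
          (Submodule.Quotient.mk_eq_zero W).2 (Subtype.coe_prop _), map_zero]
      · rw [Submodule.mem_torsionBy_iff, ← Module.AEval.of_aeval_smul, map_eq_zero_iff _ (LinearEquiv.injective _)]
        refine Subtype.ext ?_
        show (aeval sW p _ : V) = 0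
        rw [← hr, aeval_restrict]
        exact hT (x : T)
    show Nat.card T = _
    rw [π.ker.card_eq_card_quotient_mul_card_addSubgroup,
      Nat.card_congr (QuotientAddGroup.quotientKerEquivRange π).toEquiv, hrange, hker, mul_comm]
  simp only [hkc]
  -- passing to the residue field
  haveI hmax : (Ideal.span {p}).IsMaximal := PrincipalIdealRing.isMaximal_of_irreducible hpi
  letI := Ideal.Quotient.field (Ideal.span {p})
  haveI := (card_residue hpi).1
  letI : Fintype (F[X] ⧸ Ideal.span {p}) := Fintype.ofFinite _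
  letI : Module (F[X] ⧸ Ideal.span {p}) K2 := resModule K2 p (Submodule.torsionBy_isTorsionBy p)
  letI : Module (F[X] ⧸ Ideal.span {p}) C1 := resModule C1 p (torsion_quot p)
  haveI : Module.Finite (F[X] ⧸ Ideal.span {p}) K2 := Module.Finite.of_finite
  haveI : Module.Finite (F[X] ⧸ Ideal.span {p}) C1 := Module.Finite.of_finite
  haveI : Module.Finite (F[X] ⧸ Ideal.span {p}) (K2 →ₗ[F[X] ⧸ Ideal.span {p}] C1) :=
    Module.Finite.linearMap _ _ _ _
  haveI : Finite (K2 →ₗ[F[X] ⧸ Ideal.span {p}] C1) := Module.finite_of_finite (F[X] ⧸ Ideal.span {p})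
  letI : Fintype (K2 →ₗ[F[X] ⧸ Ideal.span {p}] C1) := Fintype.ofFinite _
  have hQ : Fintype.card (F[X] ⧸ Ideal.span {p}) = qDeg p := by
    rw [← Nat.card_eq_fintype_card, (card_residue hpi).2]
  let δK : ((V ⧸ W) →ₗ[F] W) → (K2 →ₗ[F[X] ⧸ Ideal.span {p}] C1) := fun u =>
    { toFun := δ u
      map_add' := (δ u).map_add
      map_smul' := fun c x => by
        obtain ⟨r, rfl⟩ := Ideal.Quotient.mk_surjective c
        exact (δ u).map_smul r x }
  have hval : ∀ u, qC (qDeg p) (kc p A1 * Nat.card (LinearMap.ker (δ u))) =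
      qP (Fintype.card (F[X] ⧸ Ideal.span {p})) (Module.finrank (F[X] ⧸ Ideal.span {p}) C1 +
        Module.finrank (F[X] ⧸ Ideal.span {p}) (LinearMap.ker (δK u))) := by
    intro u
    have h1 : kc p A1 = qDeg p ^ Module.finrank (F[X] ⧸ Ideal.span {p}) C1 := by
      rw [← card_torsion_eq_coker, Module.natCard_eq_pow_finrank (K := F[X] ⧸ Ideal.span {p}),
        (card_residue hpi).2]
    have h2 : Nat.card (LinearMap.ker (δ u)) =
        qDeg p ^ Module.finrank (F[X] ⧸ Ideal.span {p}) (LinearMap.ker (δK u)) := by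
      rw [← (card_residue hpi).2, ← Module.natCard_eq_pow_finrank]
      exact Nat.card_congr (Equiv.subtypeEquivRight fun _ => Iff.rfl)
    rw [h1, h2, ← pow_add, qC_pow (one_lt_qDeg hpi), hQ]
  simp only [hval]
  -- the affine map is onto
  let mkW : W →ₗ[F] C1 :=
    ((LinearMap.range (LinearMap.lsmul F[X] A1 p)).mkQ.restrictScalars F).comp
      (Module.AEval'.of sW).toLinearMap
  have hδK : ∀ u (b : K2), δK u b = mkW ⟨_, hmemW u b⟩ := fun u b => rfl
  let Dbar : ((V ⧸ W) →ₗ[F] W) →+ (K2 →ₗ[F[X] ⧸ Ideal.span {p}] C1) :=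
    AddMonoidHom.mk' (fun u => δK u - δK 0) fun u u' => by
      refine LinearMap.ext fun b => ?_
      rw [LinearMap.sub_apply, LinearMap.add_apply, LinearMap.sub_apply, LinearMap.sub_apply, hδK, hδK,
        hδK, hδK, ← map_sub, ← map_sub, ← map_sub, ← map_add]
      refine congrArg _ (Subtype.ext ?_)
      simp only [Submodule.coe_sub, Submodule.coe_add, hD, map_add, map_zero, LinearMap.zero_apply,
        Submodule.coe_zero, LinearMap.add_apply]
      abel
  have hDbar : ∀ u (b : K2), Dbar u b = mkW (D u (toQ b)) := by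
    intro u b
    show (δK u - δK 0) b = _
    rw [LinearMap.sub_apply, hδK, hδK, ← map_sub]
    refine congrArg _ (Subtype.ext ?_)
    simp [Submodule.coe_sub, hD, hσ']
  have hsurj : Function.Surjective Dbar := by
    intro ψ
    obtain ⟨c, c', hcc⟩ : IsCoprime (derivative p) p :=
      (separable_def p).1 (PerfectField.separable_of_irreducible hpi) |>.symm
    let φ0 : K2 →ₗ[F] C1 :=
      { toFun := fun b => ψ (c • b)
        map_add' := fun a b => by rw [smul_add, map_add]
        map_smul' := fun t b => by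
          rw [RingHom.id_apply, smul_comm c t b, ← algebraMap_smul F[X] t (c • b),
            ← algebraMap_smul F[X] t (ψ (c • b))]
          exact ψ.map_smul (Ideal.Quotient.mk _ (algebraMap F F[X] t)) (c • b) }
    have hmkW : Function.Surjective mkW := fun z => by
      obtain ⟨y, rfl⟩ := Submodule.mkQ_surjective _ z
      exact ⟨(Module.AEval'.of sW).symm y, congrArg _ (LinearEquiv.apply_symm_apply _ _)⟩
    obtain ⟨τ, hτ⟩ := mkW.exists_rightInverse_of_surjective (LinearMap.range_eq_top.2 hmkW)
    have hinj : Function.Injective toQ := fun a b h =>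
      Subtype.ext ((Module.AEval'.of sQ).symm.injective h)
    obtain ⟨ret, hret⟩ := toQ.exists_leftInverse_of_injective
      (LinearMap.ker_eq_bot'.2 fun a h => hinj (h.trans toQ.map_zero.symm))
    let φ : (V ⧸ W) →ₗ[F] W := τ ∘ₗ φ0 ∘ₗ ret
    have hφ : ∀ b : K2, mkW (φ (toQ b)) = φ0 b := fun b => by
      show mkW (τ (φ0 (ret (toQ b)))) = _
      rw [show ret (toQ b) = b from LinearMap.congr_fun hret b]
      exact LinearMap.congr_fun hτ _
    have hXK : ∀ b : K2, sQ (toQ b) = toQ ((X : F[X]) • b) := fun b => by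
      show _ = (Module.AEval'.of sQ).symm ((X : F[X]) • (b : A2))
      rw [Module.AEval'.of_symm_X_smul]
      rfl
    refine ⟨φ, LinearMap.ext fun b => ?_⟩
    rw [hDbar]
    have hmain := hD' (LinearMap.range toQ) (LinearMap.ker mkW) φ ?_ ?_ ?_ (toQ b) ⟨b, rfl⟩
    · rw [LinearMap.mem_ker, map_sub, sub_eq_zero] at hmain
      show mkW (D φ (toQ b)) = _
      rw [hmain]
      have he : aeval sQ (derivative p) (toQ b) = toQ (derivative p • b) :=
        (Module.AEval.of_symm_smul sQ (derivative p) (b : A2)).symm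
      rw [he, hφ]
      show ψ (c • derivative p • b) = ψ b
      congr 1
      conv_rhs => rw [← one_smul F[X] b, ← hcc, add_smul, mul_smul c', Submodule.torsionBy_isTorsionBy p (x := b),
        smul_zero, add_zero]
      rw [mul_smul]
    · rintro _ ⟨b', rfl⟩
      exact ⟨_, (hXK b').symm⟩
    · intro z hz
      rw [LinearMap.mem_ker] at hz ⊢
      show Submodule.Quotient.mk (Module.AEval'.of sW (sW z)) = (0 : C1)
      rw [← Module.AEval'.X_smul_of, Submodule.Quotient.mk_smul,
        show (Submodule.Quotient.mk (Module.AEval'.of sW z) : C1) = 0 from hz, smul_zero]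
    · rintro _ ⟨b', rfl⟩
      rw [LinearMap.mem_ker, map_sub, sub_eq_zero, hXK, hφ]
      show φ0 _ = Submodule.Quotient.mk (Module.AEval'.of sW (sW (φ (toQ b'))))
      rw [← Module.AEval'.X_smul_of, Submodule.Quotient.mk_smul]
      change φ0 _ = (X : F[X]) • mkW (φ (toQ b'))
      rw [hφ]
      show ψ (c • (X : F[X]) • b') = (X : F[X]) • ψ (c • b')
      rw [smul_comm c]
      exact ψ.map_smul (Ideal.Quotient.mk _ X) (c • b')
  -- counting fibres
  rw [← Finset.sum_fiberwise Finset.univ Dbar]
  have hfib : ∀ y, ∑ u ∈ Finset.univ.filter (fun u => Dbar u = y),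
      qP (Fintype.card (F[X] ⧸ Ideal.span {p})) (Module.finrank (F[X] ⧸ Ideal.span {p}) C1 +
        Module.finrank (F[X] ⧸ Ideal.span {p}) (LinearMap.ker (δK u))) =
      (Nat.card Dbar.ker : ℂ) * qP (Fintype.card (F[X] ⧸ Ideal.span {p}))
        (Module.finrank (F[X] ⧸ Ideal.span {p}) C1 +
          Module.finrank (F[X] ⧸ Ideal.span {p}) (LinearMap.ker (y + δK 0))) := by
    intro y
    have hconst : ∀ u ∈ Finset.univ.filter (fun u => Dbar u = y),
        qP (Fintype.card (F[X] ⧸ Ideal.span {p})) (Module.finrank (F[X] ⧸ Ideal.span {p}) C1 +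
        Module.finrank (F[X] ⧸ Ideal.span {p}) (LinearMap.ker (δK u))) =
        qP (Fintype.card (F[X] ⧸ Ideal.span {p}))
        (Module.finrank (F[X] ⧸ Ideal.span {p}) C1 +
          Module.finrank (F[X] ⧸ Ideal.span {p}) (LinearMap.ker (y + δK 0))) := fun u hu => by
      rw [← (Finset.mem_filter.1 hu).2, show Dbar u + δK 0 = δK u from sub_add_cancel _ _]
    rw [Finset.sum_congr rfl hconst, Finset.sum_const, nsmul_eq_mul]
    congr 2
    obtain ⟨u0, hu0⟩ := hsurj y
    rw [← Fintype.card_subtype, ← Nat.card_eq_fintype_card]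
    exact Nat.card_congr
      { toFun := fun u => ⟨u.1 - u0, by rw [AddMonoidHom.mem_ker, map_sub, u.2, hu0, sub_self]⟩
        invFun := fun v => ⟨v.1 + u0, by rw [map_add, AddMonoidHom.mem_ker.1 v.2, hu0, zero_add]⟩
        left_inv := fun u => Subtype.ext (sub_add_cancel _ _)
        right_inv := fun v => Subtype.ext (add_sub_cancel_right _ _) }
  simp only [hfib, ← Finset.mul_sum]
  refine mul_eq_zero_of_right _ ?_
  rw [← Equiv.sum_comp (Equiv.addRight (-δK 0))]
  simp only [Equiv.coe_addRight]
  haveI : Nontrivial K2 := by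
    obtain ⟨r, hr1, hr⟩ := exists_pow_kc hpi hPQ
    refine Finite.one_lt_card_iff_nontrivial.1 ?_
    show 1 < kc p A2
    rw [hr]
    exact Nat.one_lt_pow (by omega) (one_lt_qDeg hpi)
  refine (Eq.trans ?_ (sum_hom_eq_zero (K := F[X] ⧸ Ideal.span {p}) (B := K2) (A := C1) ?_ Module.finrank_pos))
  · refine Finset.sum_congr rfl fun x _ => ?_
    refine congrArg (fun f : K2 →ₗ[F[X] ⧸ Ideal.span {p}] C1 => qP (Fintype.card (F[X] ⧸ Ideal.span {p}))
      (Module.finrank (F[X] ⧸ Ideal.span {p}) C1 + Module.finrank (F[X] ⧸ Ideal.span {p}) (LinearMap.ker f))) ?_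
    exact neg_add_cancel_right x (δK 0)
  obtain ⟨r, hr1, hr⟩ := exists_pow_kc hpi hPW
  by_contra h0
  have h1 : Nat.card C1 = 1 := by
    rw [Module.natCard_eq_pow_finrank (K := F[X] ⧸ Ideal.span {p}), Nat.eq_zero_of_not_pos h0, pow_zero]
  rw [card_torsion_eq_coker, hr] at h1
  exact absurd h1 (Nat.one_lt_pow (by omega) (one_lt_qDeg hpi)).ne'

end Cfsg.Agent.GLCusp
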