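import Cfsg.Agent.Lib.Transfer.Cuspidal.GenChar

/-!
Cyclic endomorphisms: the weight and the count of cyclic pairs.
-/

set_option autoImplicit false
set_option linter.unusedSectionVars false

namespace Cfsg.Agent.GLCusp

open Polynomial
open scoped MatrixGroups

universe u

variable {F : Type u} [Field F] [Fintype F] {L : Type u} [Field L] [Algebra F L] {n : ℕ}

/-- The span of the orbit of a vector. -/
def cyc {V : Type u} [AddCommGroup V] [Module F V] (s : V →ₗ[F] V) (v : V) : Submodule F V :=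
  Submodule.span F (Set.range fun i : ℕ => (s ^ i) v)

theorem mem_cyc {V : Type u} [AddCommGroup V] [Module F V] (s : V →ₗ[F] V) (v : V) : v ∈ cyc s v :=
  Submodule.subset_span ⟨0, by simp⟩

theorem cyc_le_comap {V : Type u} [AddCommGroup V] [Module F V] (s : V →ₗ[F] V) (v : V) :
    cyc s v ≤ (cyc s v).comap s := by
  rw [cyc, Submodule.span_le]
  rintro _ ⟨i, rfl⟩
  exact Submodule.subset_span ⟨i + 1, by simp [pow_succ', Module.End.mul_apply]⟩

theorem cyc_zero {V : Type u} [AddCommGroup V] [Module F V] (s : V →ₗ[F] V) : cyc s 0 = ⊥ := by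
  rw [cyc, Submodule.span_eq_bot]
  rintro _ ⟨i, rfl⟩
  exact map_zero _

theorem natDegree_charpoly_fin (s : (Fin n → F) →ₗ[F] (Fin n → F)) : s.charpoly.natDegree = n := by
  rw [LinearMap.charpoly_natDegree, Module.finrank_fin_fun]

theorem aeval_modByMonic_apply (s : (Fin n → F) →ₗ[F] (Fin n → F)) (f : F[X]) (v : Fin n → F) :
    aeval s f v = ∑ i : Fin n, (f %ₘ s.charpoly).coeff i • (s ^ (i : ℕ)) v := by
  have h : aeval s f = aeval s (f %ₘ s.charpoly) := by
    conv_lhs => rw [← modByMonic_add_div f s.charpoly]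
    rw [map_add, map_mul, LinearMap.aeval_self_charpoly, zero_mul, add_zero]
  rcases Nat.eq_zero_or_pos n with hn | hn
  · subst hn; exact Subsingleton.elim _ _
  have hd : (f %ₘ s.charpoly).natDegree < n := by
    refine (natDegree_modByMonic_lt f s.charpoly_monic fun h1 => ?_).trans_eq (natDegree_charpoly_fin s)
    have := natDegree_charpoly_fin s
    rw [h1, natDegree_one] at this
    omega
  rw [h, aeval_endomorphism, Polynomial.sum_over_range' _ (fun i => zero_smul F ((s ^ i) v)) n hd,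
    ← Fin.sum_univ_eq_sum_range (fun i => (f %ₘ s.charpoly).coeff i • (s ^ i) v)]

theorem cyc_span {s : (Fin n → F) →ₗ[F] (Fin n → F)} {v : Fin n → F} (h : cyc s v = ⊤) :
    ⊤ ≤ Submodule.span F (Set.range fun i : Fin n => (s ^ (i : ℕ)) v) := by
  rw [← h, cyc, Submodule.span_le]
  rintro _ ⟨j, rfl⟩
  have : (s ^ j) v = aeval s (X ^ j : F[X]) v := by simp
  simp only [this, aeval_modByMonic_apply]
  exact Submodule.sum_mem _ fun i _ => Submodule.smul_mem _ _ (Submodule.subset_span ⟨i, rfl⟩)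

/-- The first powers applied to a cyclic vector form a basis. -/
noncomputable def cycBasis (s : (Fin n → F) →ₗ[F] (Fin n → F)) (v : Fin n → F) (h : cyc s v = ⊤) :
    Module.Basis (Fin n) F (Fin n → F) :=
  Module.Basis.mk (linearIndependent_of_top_le_span_of_card_eq_finrank (cyc_span h)
    (by rw [Fintype.card_fin, Module.finrank_fin_fun])) (cyc_span h)

theorem cycBasis_apply (s : (Fin n → F) →ₗ[F] (Fin n → F)) (v : Fin n → F) (h : cyc s v = ⊤) (i : Fin n) :
    cycBasis s v h i = (s ^ (i : ℕ)) v := Module.Basis.mk_apply _ _ _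

theorem aeval_eq_zero_iff {s : (Fin n → F) →ₗ[F] (Fin n → F)} {v : Fin n → F} (h : cyc s v = ⊤)
    (f : F[X]) : aeval s f v = 0 ↔ s.charpoly ∣ f := by
  constructor
  · intro hf
    rw [← modByMonic_eq_zero_iff_dvd s.charpoly_monic]
    rw [aeval_modByMonic_apply] at hf
    have hc := Fintype.linearIndependent_iff.1 (cycBasis s v h).linearIndependent
      (fun i => (f %ₘ s.charpoly).coeff i) (by simpa only [cycBasis_apply] using hf)
    ext i
    rw [coeff_zero]
    by_cases hi : i < n
    · exact hc ⟨i, hi⟩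
    · refine coeff_eq_zero_of_degree_lt ((degree_modByMonic_lt f s.charpoly_monic).trans_le ?_)
      rw [degree_eq_natDegree s.charpoly_monic.ne_zero, natDegree_charpoly_fin]
      exact_mod_cast not_lt.1 hi
  · rintro ⟨g, rfl⟩
    rw [map_mul, LinearMap.aeval_self_charpoly, zero_mul, LinearMap.zero_apply]

/-- `c` is a power of a monic irreducible. -/
def IsPP (c : F[X]) : Prop := ∃ p : F[X], p.Monic ∧ Irreducible p ∧ ∃ k : ℕ, c = p ^ k

/-- The value of the weight on a cyclic endomorphism with characteristic polynomial `c`. -/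
noncomputable def pVal (θ : L → ℂ) (c : F[X]) : ℂ :=
  @dite ℂ (IsPP c) (Classical.propDecidable _) (fun h => rootSum θ h.choose) fun _ => 0

theorem pVal_pow (θ : L → ℂ) {p : F[X]} (hp : p.Monic) (hi : Irreducible p) {k : ℕ} (hk : k ≠ 0) :
    pVal θ (p ^ k) = rootSum θ p := by
  have hP : IsPP (p ^ k) := ⟨p, hp, hi, k, rfl⟩
  rw [show pVal θ (p ^ k) = rootSum θ hP.choose from dif_pos hP]
  obtain ⟨hq, hqi, j, hj⟩ := hP.choose_spec
  have hdvd : p ∣ hP.choose := hi.prime.dvd_of_dvd_pow (hj ▸ dvd_pow_self p hk)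
  rw [← eq_of_monic_of_associated hp hq (hi.associated_of_dvd hqi hdvd)]

theorem pVal_eq_zero (θ : L → ℂ) {c : F[X]} (h : ¬ IsPP c) : pVal θ c = 0 := dif_neg h

/-- The weight of a cyclic endomorphism. -/
theorem phi_cyclic (θ : L → ℂ) (hn : 1 ≤ n) {s : (Fin n → F) →ₗ[F] (Fin n → F)} {v : Fin n → F}
    (h : cyc s v = ⊤) : phi F θ (Module.AEval' s) = pVal θ s.charpoly := by
  classical
  haveI : Nonempty (Fin n) := ⟨⟨0, hn⟩⟩
  set v0 := Module.AEval'.of s v with hv0
  have hsm : ∀ f : F[X], f • v0 = Module.AEval'.of s (aeval s f v) := fun f =>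
    (Module.AEval.of_aeval_smul s f v).symm
  by_cases hP : IsPP s.charpoly
  · obtain ⟨p, hp, hi, k, hk⟩ := hP
    have hk0 : k ≠ 0 := fun h0 => by
      have := natDegree_charpoly_fin s
      rw [hk, h0, pow_zero, natDegree_one] at this
      omega
    have hprim : IsPrim p (Module.AEval' s) := (isPrim_aeval s p).2 ⟨inferInstance, fun x => ⟨k, by
      rw [← hk, LinearMap.aeval_self_charpoly, LinearMap.zero_apply]⟩⟩
    rw [phi_eq θ hp hi hprim, hk, pVal_pow θ hp hi hk0]
    set R := LinearMap.range (LinearMap.lsmul F[X] (Module.AEval' s) p) with hR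
    have hgen : ∀ m, ∃ f : F[X], f • v0 = m := fun m => by
      obtain ⟨x, rfl⟩ := (Module.AEval'.of s).surjective m
      refine ⟨∑ i, Polynomial.C ((cycBasis s v h).repr x i) * X ^ (i : ℕ), ?_⟩
      rw [hsm]
      congr 1
      conv_rhs => rw [← (cycBasis s v h).sum_repr x]
      simp [map_sum, LinearMap.sum_apply, cycBasis_apply, Module.algebraMap_end_apply,
        Module.End.mul_apply]
    have hx : R.mkQ v0 ≠ 0 := by
      intro h0
      obtain ⟨m, hm⟩ := (Submodule.Quotient.mk_eq_zero R).1 h0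
      obtain ⟨f, rfl⟩ := hgen m
      have h1 : aeval s (1 - p * f) v = 0 := by
        apply (Module.AEval'.of s).injective
        rw [map_zero, ← hsm, sub_smul, one_smul, mul_smul]
        exact sub_eq_zero.2 hm.symm
      have h2 : p ∣ 1 - p * f := ((dvd_pow_self p hk0).trans (hk ▸ dvd_rfl)).trans ((aeval_eq_zero_iff h _).1 h1)
      exact hi.not_isUnit (isUnit_of_dvd_one ((dvd_sub_left (dvd_mul_right p f)).1 h2))
    have hpx : p • R.mkQ v0 = 0 := by
      have := torsion_quot (M := Module.AEval' s) p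
      exact @this (R.mkQ v0)
    have htop : F[X] ∙ R.mkQ v0 = ⊤ := eq_top_iff.2 fun y _ => by
      obtain ⟨m, rfl⟩ := R.mkQ_surjective y
      obtain ⟨f, rfl⟩ := hgen m
      rw [map_smul]
      exact Submodule.smul_mem _ _ (Submodule.mem_span_singleton_self _)
    have hkc : kc p (Module.AEval' s) = qDeg p := by
      rw [← card_torsion_eq_coker p, ← (span_simple hi hx hpx).2.1, htop]
      exact Nat.card_congr (Submodule.topEquiv.toEquiv.symm)
    rw [hkc, ← pow_one (qDeg p)]
    simp only [pow_one]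
    conv_lhs => arg 2; arg 2; rw [← pow_one (qDeg p)]
    rw [qC_pow (one_lt_qDeg hi), qP_one, mul_one]
  · rw [pVal_eq_zero θ hP]
    refine phi_eq_zero θ fun p hp hi hprim => hP ?_
    obtain ⟨N, hN⟩ := ((isPrim_aeval s p).1 hprim).2 v
    obtain ⟨i, -, hass⟩ := (dvd_prime_pow hi.prime N).1 ((aeval_eq_zero_iff h _).1 hN)
    exact ⟨p, hp, hi, i, eq_of_monic_of_associated s.charpoly_monic (hp.pow i) hass⟩

/-- A cyclic pair. -/
abbrev CPair (F : Type u) [Field F] (n : ℕ) : Type u :=
  {x : GL (Fin n) F × (Fin n → F) // cyc (Matrix.toLin' (x.1 : Matrix (Fin n) (Fin n) F)) x.2 = ⊤}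

theorem toLin'_pow_conj (h g : GL (Fin n) F) (i : ℕ) (v : Fin n → F) :
    (Matrix.toLin' ((h * g * h⁻¹ : GL (Fin n) F) : Matrix (Fin n) (Fin n) F) ^ i)
        (Matrix.toLin' (h : Matrix (Fin n) (Fin n) F) v) =
      Matrix.toLin' (h : Matrix (Fin n) (Fin n) F) ((Matrix.toLin' (g : Matrix (Fin n) (Fin n) F) ^ i) v) := by
  induction i with
  | zero => rfl
  | succ i ih =>
    rw [pow_succ', Module.End.mul_apply, ih, pow_succ', Module.End.mul_apply]
    simp only [Matrix.toLin'_apply, Matrix.mulVec_mulVec, ← Units.val_mul]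
    rw [inv_mul_cancel_right]

/-- The pair obtained by change of basis. -/
def cpMap (x0 : CPair F n) (h : GL (Fin n) F) : CPair F n :=
  ⟨(h * x0.1.1 * h⁻¹, Matrix.toLin' (h : Matrix (Fin n) (Fin n) F) x0.1.2), by
    rw [eq_top_iff]
    intro y _
    have hy : y = Matrix.toLin' (h : Matrix (Fin n) (Fin n) F)
        (Matrix.toLin' ((h⁻¹ : GL (Fin n) F) : Matrix (Fin n) (Fin n) F) y) := by
      simp only [Matrix.toLin'_apply, Matrix.mulVec_mulVec, ← Units.val_mul, mul_inv_cancel, Units.val_one,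
        Matrix.one_mulVec]
    rw [hy]
    have hmem : Matrix.toLin' ((h⁻¹ : GL (Fin n) F) : Matrix (Fin n) (Fin n) F) y ∈
        cyc (Matrix.toLin' (x0.1.1 : Matrix (Fin n) (Fin n) F)) x0.1.2 := by rw [x0.2]; exact Submodule.mem_top
    have := Submodule.mem_map_of_mem (f := Matrix.toLin' (h : Matrix (Fin n) (Fin n) F)) hmem
    rw [cyc, Submodule.map_span, ← Set.range_comp] at this
    refine Submodule.span_mono ?_ this
    rintro _ ⟨i, rfl⟩
    exact ⟨i, toLin'_pow_conj h x0.1.1 i x0.1.2⟩⟩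

/-- The pairs with a given characteristic polynomial form a torsor. -/
theorem card_fibre (x0 : CPair F n) :
    Nat.card {x : CPair F n // (x.1.1 : Matrix (Fin n) (Fin n) F).charpoly =
      (x0.1.1 : Matrix (Fin n) (Fin n) F).charpoly} = Nat.card (GL (Fin n) F) := by
  have hmem : ∀ h : GL (Fin n) F, ((cpMap x0 h).1.1 : Matrix (Fin n) (Fin n) F).charpoly =
      (x0.1.1 : Matrix (Fin n) (Fin n) F).charpoly := fun h => by
    show ((h : Matrix (Fin n) (Fin n) F) * (x0.1.1 : Matrix (Fin n) (Fin n) F) *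
      ((h⁻¹ : GL (Fin n) F) : Matrix (Fin n) (Fin n) F)).charpoly = _
    rw [Matrix.charpoly_mul_comm, ← mul_assoc, Units.inv_mul, one_mul]
  let f : GL (Fin n) F → {x : CPair F n // (x.1.1 : Matrix (Fin n) (Fin n) F).charpoly =
    (x0.1.1 : Matrix (Fin n) (Fin n) F).charpoly} := fun h => ⟨cpMap x0 h, hmem h⟩
  refine (Nat.card_eq_of_bijective f ⟨?_, ?_⟩).symm
  · intro h h' he
    have he1 : h * x0.1.1 * h⁻¹ = h' * x0.1.1 * h'⁻¹ := congrArg (fun z => z.1.1.1) he
    have he2 : Matrix.toLin' (h : Matrix (Fin n) (Fin n) F) x0.1.2 =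
        Matrix.toLin' (h' : Matrix (Fin n) (Fin n) F) x0.1.2 := congrArg (fun z => z.1.1.2) he
    refine Units.ext (Matrix.toLin'.injective ((cycBasis _ _ x0.2).ext fun i => ?_))
    rw [cycBasis_apply, ← toLin'_pow_conj, he1, he2, toLin'_pow_conj]
  · rintro ⟨⟨⟨g, v⟩, hcyc⟩, hc⟩
    obtain ⟨⟨g0, v0⟩, hcyc0⟩ := x0
    simp only at hc hcyc0 hcyc
    let e : (Fin n → F) ≃ₗ[F] (Fin n → F) :=
      (cycBasis _ _ hcyc0).equiv (cycBasis _ _ hcyc) (Equiv.refl _)
    let h : GL (Fin n) F := Matrix.GeneralLinearGroup.toLin.symm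
      (LinearMap.GeneralLinearGroup.ofLinearEquiv e)
    have hh : Matrix.toLin' (h : Matrix (Fin n) (Fin n) F) = e.toLinearMap := by
      have := congrArg (fun z : LinearMap.GeneralLinearGroup F (Fin n → F) => (z : (Fin n → F) →ₗ[F] (Fin n → F)))
        (Matrix.GeneralLinearGroup.toLin.apply_symm_apply (LinearMap.GeneralLinearGroup.ofLinearEquiv e))
      exact this
    have hcp : (Matrix.toLin' (g : Matrix (Fin n) (Fin n) F)).charpoly =
        (Matrix.toLin' (g0 : Matrix (Fin n) (Fin n) F)).charpoly := by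
      rw [Matrix.charpoly_toLin', Matrix.charpoly_toLin', hc]
    have key : ∀ f : F[X], e (aeval (Matrix.toLin' (g0 : Matrix (Fin n) (Fin n) F)) f v0) =
        aeval (Matrix.toLin' (g : Matrix (Fin n) (Fin n) F)) f v := fun f => by
      rw [aeval_modByMonic_apply, aeval_modByMonic_apply, hcp, map_sum]
      refine Finset.sum_congr rfl fun i _ => ?_
      rw [map_smul, ← cycBasis_apply _ _ hcyc0, ← cycBasis_apply _ _ hcyc, Module.Basis.equiv_apply]
      rfl
    have hv : e v0 = v := by simpa using key 1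
    refine ⟨h, Subtype.ext (Subtype.ext (Prod.ext ?_ ?_))⟩
    · show h * g0 * h⁻¹ = g
      rw [mul_inv_eq_iff_eq_mul]
      refine Units.ext (Matrix.toLin'.injective ((cycBasis _ _ hcyc0).ext fun i => ?_))
      rw [Units.val_mul, Units.val_mul, Matrix.toLin'_mul, Matrix.toLin'_mul, LinearMap.comp_apply,
        LinearMap.comp_apply, cycBasis_apply, hh]
      have h1 := key (X * X ^ (i : ℕ))
      have h2 := key (X ^ (i : ℕ))
      simp only [map_mul, map_pow, aeval_X, Module.End.mul_apply] at h1 h2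
      simp only [LinearEquiv.coe_coe]
      rw [h1, h2]
    · show Matrix.toLin' (h : Matrix (Fin n) (Fin n) F) v0 = v
      rw [hh]
      exact hv

/-- Every admissible polynomial is the characteristic polynomial of a cyclic pair. -/
theorem exists_cpair [DecidableEq F] {c : F[X]} (hc : c.Monic) (hd : c.natDegree = n) (h0 : c.coeff 0 ≠ 0) :
    ∃ x : CPair F n, (x.1.1 : Matrix (Fin n) (Fin n) F).charpoly = c := by
  let pb := AdjoinRoot.powerBasis (f := c) hc.ne_zero
  have hdim : pb.dim = n := hd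
  let b := pb.basis.reindex (finCongr hdim)
  let A := LinearMap.toMatrix b b (LinearMap.mulLeft F pb.gen)
  haveI : Module.Finite F (AdjoinRoot c) := pb.finite
  have hA : A.charpoly = c := by
    have h1 := charpoly_leftMulMatrix pb
    rw [Algebra.leftMulMatrix_apply, LinearMap.charpoly_toMatrix] at h1
    show (LinearMap.toMatrix b b _).charpoly = c
    rw [LinearMap.charpoly_toMatrix]
    refine h1.trans ?_
    rw [AdjoinRoot.powerBasis_gen, AdjoinRoot.minpoly_root hc.ne_zero, hc.leadingCoeff, inv_one,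
      map_one, mul_one]
  have hdet : A.det ≠ 0 := by
    rw [Matrix.det_eq_sign_charpoly_coeff, hA]
    exact mul_ne_zero (pow_ne_zero _ (neg_ne_zero.2 one_ne_zero)) h0
  have hmv : ∀ y, Matrix.toLin' A (b.equivFun y) = b.equivFun (pb.gen * y) := fun y => by
    rw [Matrix.toLin'_apply]
    exact LinearMap.toMatrix_mulVec_repr b b (LinearMap.mulLeft F pb.gen) y
  have hpw : ∀ i : ℕ, (Matrix.toLin' A ^ i) (b.equivFun 1) = b.equivFun (pb.gen ^ i) := by
    intro i
    induction i with
    | zero => simp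
    | succ i ih => rw [pow_succ', Module.End.mul_apply, ih, hmv, pow_succ']
  refine ⟨⟨(Matrix.GeneralLinearGroup.mkOfDetNeZero A hdet, b.equivFun 1), ?_⟩, hA⟩
  show cyc (Matrix.toLin' A) (b.equivFun 1) = ⊤
  rw [cyc, funext hpw]
  refine eq_top_iff.2 ((b.map b.equivFun).span_eq.ge.trans (Submodule.span_mono ?_))
  rintro _ ⟨i, rfl⟩
  refine ⟨(i : ℕ), ?_⟩
  simp [b, PowerBasis.basis_eq_pow]

end Cfsg.Agent.GLCusp
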