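import Cfsg.Agent.S3357
import Cfsg.Agent.Lib.Classical.SympSemisimpleClasses
import Mathlib

/-!
For a group of order prime to the characteristic of a finite field, the sum over the group of the
lifted traces of a representation is a multiple of the order.
-/

set_option autoImplicit false
set_option linter.unusedSectionVars false

namespace Cfsg.Agent.GLCusp

open Matrix Polynomial

universe u

/-- An idempotent matrix is a product of rectangular factors. -/
theorem exists_factor {K : Type*} [Field K] {D : ℕ} (e : Matrix (Fin D) (Fin D) K) (he : e * e = e) {k : ℕ}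
    (hk : e.rank = k) :
    ∃ (A : Matrix (Fin D) (Fin k) K) (B : Matrix (Fin k) (Fin D) K), A * B = e ∧ B * A = 1 := by
  subst hk
  set f := Matrix.mulVecLin e with hf
  have hff : ∀ v, f (f v) = f v := fun v => by
    simp only [hf, Matrix.mulVecLin_apply, Matrix.mulVec_mulVec, he]
  let b := Module.finBasisOfFinrankEq K (LinearMap.range f) (n := e.rank) rfl
  let A' : (Fin e.rank → K) →ₗ[K] (Fin D → K) :=
    (LinearMap.range f).subtype ∘ₗ b.equivFun.symm.toLinearMap
  let B' : (Fin D → K) →ₗ[K] (Fin e.rank → K) := b.equivFun.toLinearMap ∘ₗ f.rangeRestrict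
  have h1 : A' ∘ₗ B' = f := LinearMap.ext fun v => by simp [A', B']
  have h2 : B' ∘ₗ A' = LinearMap.id := LinearMap.ext fun v => by
    obtain ⟨w, hw⟩ := (b.equivFun.symm v).2
    show b.equivFun (f.rangeRestrict ((b.equivFun.symm v : LinearMap.range f) : Fin D → K)) = v
    have : f.rangeRestrict ((b.equivFun.symm v : LinearMap.range f) : Fin D → K) = b.equivFun.symm v := by
      refine Subtype.ext ?_
      show f ((b.equivFun.symm v : LinearMap.range f) : Fin D → K) = _
      rw [← hw, hff]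
    rw [this, LinearEquiv.apply_symm_apply]
  refine ⟨LinearMap.toMatrix' A', LinearMap.toMatrix' B', ?_, ?_⟩
  · rw [← LinearMap.toMatrix'_comp, h1, hf, ← Matrix.toLin'_apply', LinearMap.toMatrix'_toLin']
  · rw [← LinearMap.toMatrix'_comp, h2, LinearMap.toMatrix'_id]

/-- The trace of a lift of an idempotent is the rank. -/
theorem trace_idempotent {p N D : ℕ} [Fact p.Prime] (hN : N ≠ 0)
    (E : Matrix (Fin D) (Fin D) (ZMod (p ^ N))) (hE : E * E = E) :
    Matrix.trace E = (((ZMod.castHom (dvd_pow_self p hN) (ZMod p)).mapMatrix E).rank : ZMod (p ^ N)) := by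
  haveI : NeZero (p ^ N) := ⟨pow_ne_zero _ (Fact.out : p.Prime).ne_zero⟩
  set c := ZMod.castHom (dvd_pow_self p hN) (ZMod p) with hc
  have hlift : ∀ x, ∃ y, c y = x := ZMod.ringHom_surjective c
  obtain ⟨k, hk⟩ : ∃ k, (c.mapMatrix E).rank = k := ⟨_, rfl⟩
  rw [hk]
  obtain ⟨A, B, hAB, hBA⟩ := exists_factor (c.mapMatrix E) (by rw [← map_mul, hE]) hk
  choose lft hlft using hlift
  set A1 := A.map lft
  set B1 := B.map lft
  have hA1 : A1.map c = A := by ext i j; simp [A1, hlft]
  have hB1 : B1.map c = B := by ext i j; simp [B1, hlft]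
  have hEm : E.map c = c.mapMatrix E := rfl
  set Mm := B1 * E * A1 with hMm
  have hM1 : Mm.map c = 1 := by
    rw [hMm, Matrix.map_mul, Matrix.map_mul, hA1, hB1, hEm, ← hAB, ← Matrix.mul_assoc, hBA,
      Matrix.one_mul, hBA]
  have hu : IsUnit Mm.det := by
    have h1 : c Mm.det = 1 := by rw [RingHom.map_det, RingHom.mapMatrix_apply, hM1, Matrix.det_one]
    obtain ⟨a, ha⟩ : ∃ a : ℕ, (a : ZMod (p ^ N)) = Mm.det := ⟨_, ZMod.natCast_zmod_val _⟩
    rw [← ha] at h1 ⊢
    rw [map_natCast] at h1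
    exact (ZMod.isUnit_iff_coprime a (p ^ N)).mpr (Nat.Coprime.pow_right N
      ((ZMod.isUnit_iff_coprime a p).mp (h1 ▸ isUnit_one)))
  set M' := Mm⁻¹ with hM'
  have hM'M : M' * Mm = 1 := Matrix.nonsing_inv_mul _ hu
  set E' := E * A1 * M' * B1 * E with hE'
  have hEE' : E * E' = E' := by rw [hE']; simp only [← Matrix.mul_assoc, hE]
  have hE'E : E' * E = E' := by rw [hE']; simp only [Matrix.mul_assoc, hE]
  have hE'2 : E' * E' = E' := by
    have h : E' * E' = E * A1 * (M' * (B1 * (E * E) * A1) * M') * B1 * E := by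
      rw [hE']; simp only [Matrix.mul_assoc]
    rw [h, hE, ← hMm, hM'M, Matrix.one_mul, hE']
  -- the difference vanishes
  set Z := E - E' with hZ
  have hZ2 : Z * Z = Z := by
    rw [hZ, sub_mul, mul_sub, mul_sub, hE, hEE', hE'E, hE'2, sub_self, sub_zero]
  have hM'c : M'.map c = 1 := by
    have h := congrArg (fun X : Matrix _ _ (ZMod (p ^ N)) => X.map c) hM'M
    simp only [Matrix.map_mul, hM1, Matrix.mul_one] at h
    rw [h, Matrix.map_one _ (map_zero c) (map_one c)]
  have hZc : Z.map c = 0 := by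
    rw [hZ, show (E - E').map c = E.map c - E'.map c from c.mapMatrix.map_sub E E',
      hE', Matrix.map_mul, Matrix.map_mul, Matrix.map_mul, Matrix.map_mul, hM'c, hA1, hB1, hEm,
      Matrix.mul_one, ← hAB]
    simp only [Matrix.mul_assoc]
    rw [← Matrix.mul_assoc B A, hBA, Matrix.one_mul, ← Matrix.mul_assoc B A, hBA, Matrix.one_mul, sub_self]
  have hdiv : ∀ i j, ∃ y, Z i j = (p : ZMod (p ^ N)) * y := fun i j => by
    have h0 : c (Z i j) = 0 := congrFun (congrFun hZc i) j
    rw [← ZMod.natCast_zmod_val (Z i j), map_natCast, ZMod.natCast_eq_zero_iff] at h0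
    obtain ⟨y, hy⟩ := h0
    exact ⟨y, by rw [← Nat.cast_mul, ← hy, ZMod.natCast_zmod_val]⟩
  choose Y hY using hdiv
  have hZY : Z = p • Matrix.of Y := by
    ext i j
    rw [hY, Matrix.smul_apply, nsmul_eq_mul, Matrix.of_apply]
  have hpow : ∀ m : ℕ, Z ^ (m + 1) = Z := fun m => by
    induction m with
    | zero => rw [pow_one]
    | succ m ih => rw [pow_succ, ih, hZ2]
  have hZ0 : Z = 0 := by
    obtain ⟨m, hm⟩ := Nat.exists_eq_succ_of_ne_zero hN
    rw [← hpow m, show m + 1 = N from hm.symm, hZY, _root_.smul_pow, ← Nat.cast_smul_eq_nsmul (ZMod (p ^ N)),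
      ZMod.natCast_self, zero_smul]
  rw [show E = E' from sub_eq_zero.1 hZ0]
  rw [show E' = (E * A1) * (M' * (B1 * E)) by rw [hE']; simp only [Matrix.mul_assoc],
    Matrix.trace_mul_comm, show M' * (B1 * E) * (E * A1) = M' * (B1 * (E * E) * A1) by
      simp only [Matrix.mul_assoc], hE, ← hMm, hM'M, Matrix.trace_one, Fintype.card_fin]

/-- Diagonalising an element of order prime to the characteristic. -/
theorem exists_conj_diagonal {L : Type u} [Field L] {d : ℕ} (A : Matrix (Fin d) (Fin d) L) {M : ℕ}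
    (hM : (M : L) ≠ 0) (hA : A ^ M = 1) (hs : A.charpoly.Splits) :
    ∃ (P P' : Matrix (Fin d) (Fin d) L) (v : Fin d → L),
      P * P' = 1 ∧ P' * P = 1 ∧ A = P * Matrix.diagonal v * P' ∧ ∀ i, v i ^ M = 1 := by
  classical
  have hlen : A.charpoly.roots.toList.length = d := by
    rw [Multiset.length_toList, ← hs.natDegree_eq_card_roots, Matrix.charpoly_natDegree_eq_dim,
      Fintype.card_fin]
  let v : Fin d → L := fun i => A.charpoly.roots.toList.get (Fin.cast hlen.symm i)
  have hprod : A.charpoly = ∏ i, (X - Polynomial.C (v i)) := by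
    conv_lhs => rw [hs.eq_prod_roots_of_monic A.charpoly_monic, ← Multiset.coe_toList A.charpoly.roots]
    rw [Multiset.map_coe, Multiset.prod_coe, ← Fin.prod_univ_fun_getElem]
    exact ((finCongr hlen.symm).prod_comp fun k => X - Polynomial.C (A.charpoly.roots.toList.get k)).symm
  have hv : ∀ i, v i ^ M = 1 := by
    intro i
    have hr : A.charpoly.IsRoot (v i) := Polynomial.isRoot_of_mem_roots
      (by rw [← Multiset.mem_toList]; exact List.get_mem _ _)
    obtain ⟨w, hw0, hw⟩ := Matrix.exists_mulVec_eq_zero_iff.2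
      (show (Matrix.scalar (Fin d) (v i) - A).det = 0 by rw [← Matrix.eval_charpoly]; exact hr)
    have hev : A *ᵥ w = v i • w := by
      rw [Matrix.sub_mulVec, sub_eq_zero, Matrix.scalar_apply] at hw
      rw [← hw]; ext j; simp [Matrix.mulVec_diagonal]
    have hpow : ∀ k : ℕ, (A ^ k) *ᵥ w = v i ^ k • w := fun k => by
      induction k with
      | zero => simp
      | succ k ih => rw [pow_succ', ← Matrix.mulVec_mulVec, ih, Matrix.mulVec_smul, hev, smul_smul, ← pow_succ]
    have h1 := hpow M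
    rw [hA, Matrix.one_mulVec] at h1
    exact smul_left_injective L hw0 (h1.symm.trans (one_smul L w).symm)
  set Dm := Matrix.diagonal v
  have hD : Dm ^ M = 1 := by
    rw [Matrix.diagonal_pow, show v ^ M = fun _ => 1 from funext hv, Matrix.diagonal_one]
  have hch : ∀ C : Matrix (Fin d) (Fin d) L, LinearMap.charpoly (Matrix.toLinAlgEquiv' C) = C.charpoly :=
    fun C => by
    rw [← LinearMap.charpoly_toMatrix _ (Pi.basisFun L _), LinearMap.toMatrix_eq_toMatrix']
    exact congrArg _ (LinearMap.toMatrix'_toLin' C)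
  obtain ⟨E, hE⟩ := SympSemisimpleClasses.exists_equiv_of_charpoly_eq (Matrix.toLinAlgEquiv' Dm)
    (Matrix.toLinAlgEquiv' A) hM (by rw [← map_pow, hD, map_one]) (by rw [← map_pow, hA, map_one])
    (by rw [hch, hch, Matrix.charpoly_diagonal, hprod])
  refine ⟨LinearMap.toMatrixAlgEquiv' (E : (Fin d → L) →ₗ[L] Fin d → L),
    LinearMap.toMatrixAlgEquiv' (E.symm : (Fin d → L) →ₗ[L] Fin d → L), v, ?_, ?_, ?_, hv⟩
  · rw [← map_mul, show ((E : (Fin d → L) →ₗ[L] Fin d → L) * (E.symm : (Fin d → L) →ₗ[L] Fin d → L)) = 1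
      from LinearMap.ext fun w => E.apply_symm_apply w, map_one]
  · rw [← map_mul, show ((E.symm : (Fin d → L) →ₗ[L] Fin d → L) * (E : (Fin d → L) →ₗ[L] Fin d → L)) = 1
      from LinearMap.ext fun w => E.symm_apply_apply w, map_one]
  · refine Matrix.toLinAlgEquiv'.injective (LinearMap.ext fun w => ?_)
    rw [map_mul, map_mul, Matrix.toLinAlgEquiv'_toMatrixAlgEquiv', Matrix.toLinAlgEquiv'_toMatrixAlgEquiv',
      Module.End.mul_apply, Module.End.mul_apply]
    show _ = E (Matrix.toLinAlgEquiv' Dm (E.symm w))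
    rw [hE, E.apply_symm_apply]

/-- The sum of `θ` over the eigenvalues of a matrix. -/
noncomputable def lTr {L : Type u} [Field L] (θ : L →*₀ ℂ) {d : ℕ} (A : Matrix (Fin d) (Fin d) L) : ℂ :=
  (A.charpoly.roots.map θ).sum

theorem lTr_conj_diagonal {L : Type u} [Field L] (θ : L →*₀ ℂ) {d : ℕ} {P P' : Matrix (Fin d) (Fin d) L}
    (v : Fin d → L) (hP : P' * P = 1) : lTr θ (P * Matrix.diagonal v * P') = ∑ i, θ (v i) := by
  rw [lTr, Matrix.charpoly_mul_comm, ← Matrix.mul_assoc, hP, Matrix.one_mul, Matrix.charpoly_diagonal,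
    Finset.prod_eq_multiset_prod, show (Multiset.map (fun i => X - Polynomial.C (v i)) Finset.univ.val) =
      (Multiset.map v Finset.univ.val).map fun a => X - Polynomial.C a by rw [Multiset.map_map]; rfl,
    Polynomial.roots_multiset_prod_X_sub_C, Multiset.map_map]
  rfl

theorem conj_pow {L : Type u} [Field L] {d : ℕ} {P P' : Matrix (Fin d) (Fin d) L} (v : Fin d → L)
    (h1 : P * P' = 1) (h2 : P' * P = 1) (j : ℕ) :
    (P * Matrix.diagonal v * P') ^ j = P * Matrix.diagonal (v ^ j) * P' := by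
  induction j with
  | zero => simp [h1]
  | succ j ih =>
    rw [pow_succ, ih, show P * diagonal (v ^ j) * P' * (P * diagonal v * P') =
      P * (diagonal (v ^ j) * (P' * P) * diagonal v) * P' by simp only [Matrix.mul_assoc],
      h2, Matrix.mul_one, Matrix.diagonal_mul_diagonal, pow_succ]
    rfl

section Sum

variable {L : Type u} [Field L] [Fintype L] {p : ℕ} [Fact p.Prime] [CharP L p]
variable {H : Type u} [Group H] [Fintype H]

/-- The sum of the lifted traces over a group of order prime to the characteristic. -/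
theorem sum_lTr (θ : L →*₀ ℂ) (hθ : Function.Injective θ) {d : ℕ} (hp : ¬ p ∣ Nat.card H)
    (ρ : H →* GL (Fin d) L) (hs : ∀ h, ((ρ h : GL (Fin d) L) : Matrix (Fin d) (Fin d) L).charpoly.Splits) :
    ∃ z : ℤ, ∑ h : H, lTr θ ((ρ h : GL (Fin d) L) : Matrix (Fin d) (Fin d) L) = (Nat.card H : ℂ) * z := by
  classical
  have hunit : ∀ K : Subgroup H, ¬ p ∣ Nat.card K :=
    fun K h => hp (h.trans (Subgroup.card_subgroup_dvd_card K))
  let e : Subgroup H → Matrix (Fin d) (Fin d) L := fun K =>
    ∑ x : K, ((ρ x : GL (Fin d) L) : Matrix (Fin d) (Fin d) L)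
  let f : Subgroup H → ℕ := fun K => (e K).rank
  -- cyclic subgroups
  have hcyc : ∀ c : H, ∑ x : Subgroup.zpowers c, lTr θ ((ρ x : GL (Fin d) L) : Matrix (Fin d) (Fin d) L) =
      (Nat.card (Subgroup.zpowers c) : ℂ) * f (Subgroup.zpowers c) := by
    intro c
    set o := orderOf c
    have ho : 0 < o := orderOf_pos c
    have hoL : (o : L) ≠ 0 := fun h => hp (((CharP.cast_eq_zero_iff L p o).1 h).trans (orderOf_dvd_natCard c))
    have hA : ((ρ c : GL (Fin d) L) : Matrix (Fin d) (Fin d) L) ^ o = 1 := by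
      rw [← Units.val_pow_eq_pow_val, ← map_pow, pow_orderOf_eq_one, map_one, Units.val_one]
    obtain ⟨P, P', v, h1, h2, hAv, hv⟩ := exists_conj_diagonal _ hoL hA (hs c)
    have hval : ∀ x : Fin o, ((ρ (c ^ (x : ℕ)) : GL (Fin d) L) : Matrix (Fin d) (Fin d) L) =
        P * Matrix.diagonal (v ^ (x : ℕ)) * P' := fun x => by
      rw [map_pow, Units.val_pow_eq_pow_val, hAv, conj_pow v h1 h2]
    have hfin : IsOfFinOrder c := isOfFinOrder_of_finite c
    have hsum : ∀ {R : Type u} [AddCommMonoid R] (g : H → R),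
        ∑ x : Subgroup.zpowers c, g x = ∑ j : Fin o, g (c ^ (j : ℕ)) := fun g =>
      (Fintype.sum_equiv (finEquivZPowers hfin) (fun j => g (c ^ (j : ℕ))) (fun x => g x) fun _ => rfl).symm
    have hgeom : ∀ {R : Type u} [Field R] (x : R), (o : R) ≠ 0 → x ^ o = 1 →
        ∑ j : Fin o, x ^ (j : ℕ) = if x = 1 then (o : R) else 0 := by
      intro R _ x _ hx
      rw [Fin.sum_univ_eq_sum_range (fun j => x ^ j) o]
      split_ifs with h
      · simp [h]
      · exact (mul_eq_zero.1 (by rw [geom_sum_mul, hx, sub_self] :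
          (∑ j ∈ Finset.range o, x ^ j) * (x - 1) = 0)).resolve_right (sub_ne_zero.2 h)
    have hrank : f (Subgroup.zpowers c) = (Finset.univ.filter fun i => v i = 1).card := by
      have he : e (Subgroup.zpowers c) = P * Matrix.diagonal (fun i => if v i = 1 then (o : L) else 0) * P' := by
        show ∑ x : Subgroup.zpowers c, ((ρ x : GL (Fin d) L) : Matrix (Fin d) (Fin d) L) = _
        rw [hsum (fun x => ((ρ x : GL (Fin d) L) : Matrix (Fin d) (Fin d) L))]
        simp only [hval, ← Finset.sum_mul, ← Finset.mul_sum]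
        refine congrArg (fun X => P * X * P') ?_
        ext i k
        rw [Matrix.sum_apply]
        by_cases hik : i = k
        · subst hik
          simp only [Matrix.diagonal_apply_eq, Pi.pow_apply]
          exact hgeom (v i) hoL (hv i)
        · simp [Matrix.diagonal_apply_ne _ hik]
      show (e _).rank = _
      rw [he, Matrix.rank_mul_eq_left_of_isUnit_det _ _ (Matrix.isUnit_det_of_left_inverse h1),
        Matrix.rank_mul_eq_right_of_isUnit_det _ _ (Matrix.isUnit_det_of_left_inverse h2),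
        Matrix.rank_diagonal, Fintype.card_subtype]
      exact congrArg Finset.card (Finset.filter_congr fun i _ => by
        by_cases h : v i = 1 <;> simp [h, hoL])
    rw [Nat.card_zpowers, hrank]
    rw [show (∑ x : Subgroup.zpowers c, lTr θ ((ρ x : GL (Fin d) L) : Matrix (Fin d) (Fin d) L)) =
      ∑ j : Fin o, lTr θ ((ρ (c ^ (j : ℕ)) : GL (Fin d) L) : Matrix (Fin d) (Fin d) L) from
      (Fintype.sum_equiv (finEquivZPowers hfin) (fun j => lTr θ ((ρ (c ^ (j : ℕ)) : GL (Fin d) L) :
        Matrix (Fin d) (Fin d) L)) (fun x => lTr θ ((ρ x : GL (Fin d) L) : Matrix (Fin d) (Fin d) L))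
        fun _ => rfl).symm]
    rw [Finset.sum_congr rfl fun j _ => by rw [hval, lTr_conj_diagonal θ _ h2]]
    simp only [Pi.pow_apply, map_pow]
    rw [Finset.sum_comm]
    have hg : ∀ i, ∑ j : Fin o, θ (v i) ^ (j : ℕ) = if v i = 1 then (o : ℂ) else 0 := fun i => by
      rw [Fin.sum_univ_eq_sum_range (fun j => θ (v i) ^ j) o]
      split_ifs with h
      · simp [h]
      · refine (mul_eq_zero.1 (by rw [geom_sum_mul, ← map_pow, hv, map_one, sub_self] :
          (∑ j ∈ Finset.range o, θ (v i) ^ j) * (θ (v i) - 1) = 0)).resolve_right (sub_ne_zero.2 ?_)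
        rw [← map_one θ]
        exact fun he => h (hθ he)
    simp only [hg, ← Finset.sum_filter, Finset.sum_const, nsmul_eq_mul]
    ring
  -- restriction of scalars
  haveI : NeZero p := ⟨(Fact.out : p.Prime).ne_zero⟩
  letI : Algebra (ZMod p) L := ZMod.algebra L p
  haveI : Module.Finite (ZMod p) L := Module.Finite.of_finite
  set r := Module.finrank (ZMod p) L with hr
  have hr0 : 0 < r := Module.finrank_pos
  let b := Module.finBasis (ZMod p) (Fin d → L)
  let res : Module.End L (Fin d → L) →+* Module.End (ZMod p) (Fin d → L) :=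
    { toFun := fun g => g.restrictScalars (ZMod p)
      map_one' := rfl
      map_mul' := fun _ _ => rfl
      map_zero' := rfl
      map_add' := fun _ _ => rfl }
  let φ : Matrix (Fin d) (Fin d) L →+* Matrix (Fin (Module.finrank (ZMod p) (Fin d → L)))
      (Fin (Module.finrank (ZMod p) (Fin d → L))) (ZMod p) :=
    (LinearMap.toMatrixAlgEquiv b).toRingEquiv.toRingHom.comp
      (res.comp Matrix.toLinAlgEquiv'.toRingEquiv.toRingHom)
  have hφrank : ∀ A, (φ A).rank = r * A.rank := by
    intro A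
    rw [Matrix.rank_eq_finrank_range_toLin (φ A) b b]
    have : Matrix.toLin b b (φ A) = res (Matrix.toLinAlgEquiv' A) :=
      (LinearMap.toMatrixAlgEquiv b).symm_apply_apply _
    rw [this]
    show Module.finrank (ZMod p) ((LinearMap.range (Matrix.toLinAlgEquiv' A)).restrictScalars (ZMod p)) = _
    rw [show Module.finrank (ZMod p) ((LinearMap.range (Matrix.toLinAlgEquiv' A)).restrictScalars (ZMod p)) =
      Module.finrank (ZMod p) (LinearMap.range (Matrix.toLinAlgEquiv' A)) from rfl,
      ← Module.finrank_mul_finrank (ZMod p) L (LinearMap.range (Matrix.toLinAlgEquiv' A))]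
    rfl
  let ρ0 : H →* GL (Fin (Module.finrank (ZMod p) (Fin d → L))) (ZMod p) := (Units.map φ.toMonoidHom).comp ρ
  choose Rlift hR using fun N : ℕ => S3357.exists_lift hp ρ0 (N + 1) N.succ_ne_zero
  let τ : ∀ N : ℕ, H → ZMod (p ^ (N + 1)) := fun N x =>
    Matrix.trace (Units.val (Rlift N x))
  have hτ : ∀ (N : ℕ) (K : Subgroup H), ∑ x : K, τ N x = ((Nat.card K * (r * f K) : ℕ) : ZMod (p ^ (N + 1))) := by
    intro N K
    haveI : NeZero (p ^ (N + 1)) := ⟨pow_ne_zero _ (Fact.out : p.Prime).ne_zero⟩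
    set c := ZMod.castHom (dvd_pow_self p N.succ_ne_zero) (ZMod p) with hc
    set S : Matrix (Fin (Module.finrank (ZMod p) (Fin d → L))) (Fin (Module.finrank (ZMod p) (Fin d → L)))
      (ZMod (p ^ (N + 1))) := ∑ x : K, Units.val (Rlift N x) with hS
    have hk : IsUnit ((Nat.card K : ℕ) : ZMod (p ^ (N + 1))) :=
      (ZMod.isUnit_iff_coprime _ _).2 (Nat.Coprime.pow_right _
        ((Nat.Prime.coprime_iff_not_dvd Fact.out).2 (hunit K)).symm)
    obtain ⟨w, hw⟩ := hk.exists_left_inv
    have hSS : S * S = ((Nat.card K : ℕ) : ZMod (p ^ (N + 1))) • S := by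
      conv_lhs => arg 1; rw [hS]
      rw [Finset.sum_mul, Nat.cast_smul_eq_nsmul, Nat.card_eq_fintype_card, ← Finset.card_univ,
        ← Finset.sum_const]
      refine Finset.sum_congr rfl fun y _ => ?_
      rw [hS, Finset.mul_sum]
      refine Fintype.sum_equiv (Equiv.mulLeft y) _ _ fun x => ?_
      simp
    have hE : (w • S) * (w • S) = w • S := by
      rw [Matrix.smul_mul, Matrix.mul_smul, hSS, smul_smul, smul_smul, mul_assoc, hw, mul_one]
    have htr := trace_idempotent N.succ_ne_zero (w • S) hE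
    have hred : c.mapMatrix (w • S) = c w • φ (e K) := by
      have h1 : c.mapMatrix S = φ (e K) := by
        rw [hS, map_sum, map_sum]
        refine Finset.sum_congr rfl fun x _ => ?_
        exact congrArg Units.val (hR N (x : H))
      ext i j
      show c (w * S i j) = c w * φ (e K) i j
      rw [map_mul, ← h1]
      rfl
    have hcw : c w ≠ 0 := by
      intro h0
      have := congrArg c hw
      rw [map_mul, h0, zero_mul, map_one] at this
      exact zero_ne_one this
    have hr1 : (c w • φ (e K)).rank = (φ (e K)).rank := by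
      rw [Matrix.smul_eq_diagonal_mul]
      exact Matrix.rank_mul_eq_right_of_isUnit_det _ _ (by
        rw [Matrix.det_diagonal, Finset.prod_const]; exact (IsUnit.mk0 _ hcw).pow _)
    rw [hred, hr1, hφrank] at htr
    calc ∑ x : K, τ N x = Matrix.trace S := (Matrix.trace_sum _ _).symm
      _ = ((Nat.card K : ℕ) : ZMod (p ^ (N + 1))) * Matrix.trace (w • S) := by
          rw [Matrix.trace_smul, smul_eq_mul, ← mul_assoc, mul_comm _ w, hw, one_mul]
      _ = _ := by rw [htr, ← Nat.cast_mul]
  -- indicator functions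
  let P : AddSubgroup (H → ℤ) :=
    { carrier := {g | ∃ Z : ℤ, ∑ x, (g x : ℂ) * lTr θ ((ρ x : GL (Fin d) L) : Matrix (Fin d) (Fin d) L) = Z ∧
          ∀ N, ∑ x, (g x : ZMod (p ^ (N + 1))) * τ N x = ((r * Z : ℤ) : ZMod (p ^ (N + 1)))}
      zero_mem' := ⟨0, by simp, fun N => by simp⟩
      add_mem' := fun {a b} ⟨Z, h1, h2⟩ ⟨Z', h1', h2'⟩ => ⟨Z + Z',
        by simp only [Pi.add_apply, Int.cast_add, add_mul, Finset.sum_add_distrib, h1, h1'],
        fun N => by simp only [Pi.add_apply, Int.cast_add, add_mul, Finset.sum_add_distrib, h2, h2', mul_add]⟩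
      neg_mem' := fun {a} ⟨Z, h1, h2⟩ => ⟨-Z,
        by simp only [Pi.neg_apply, Int.cast_neg, neg_mul, Finset.sum_neg_distrib, h1],
        fun N => by simp only [Pi.neg_apply, Int.cast_neg, neg_mul, Finset.sum_neg_distrib, h2, mul_neg]⟩ }
  let ind : Subgroup H → H → ℤ := fun C x => if x ∈ C then 1 else 0
  let gen : Subgroup H → H → ℤ := fun C x => if Subgroup.zpowers x = C then 1 else 0
  have hind : ∀ c : H, ind (Subgroup.zpowers c) ∈ P := by
    intro c
    refine ⟨((Nat.card (Subgroup.zpowers c) * f (Subgroup.zpowers c) : ℕ) : ℤ), ?_, fun N => ?_⟩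
    · rw [Int.cast_natCast, Nat.cast_mul, ← hcyc]
      simp only [ind, Int.cast_ite, Int.cast_one, Int.cast_zero, ite_mul, one_mul, zero_mul, ← Finset.sum_filter]
      exact Finset.sum_subtype _ (fun x => by simp)
        (fun x => lTr θ ((ρ x : GL (Fin d) L) : Matrix (Fin d) (Fin d) L))
    · rw [← Nat.cast_mul, Int.cast_natCast, mul_left_comm, ← hτ N (Subgroup.zpowers c)]
      simp only [ind, Int.cast_ite, Int.cast_one, Int.cast_zero, ite_mul, one_mul, zero_mul, ← Finset.sum_filter]
      exact Finset.sum_subtype _ (fun x => by simp) (τ N)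
  let cyclics : Finset (Subgroup H) := Finset.univ.image Subgroup.zpowers
  have hgen : ∀ k : ℕ, ∀ C ∈ cyclics, Nat.card C = k → gen C ∈ P := by
    intro k
    induction k using Nat.strong_induction_on with
    | _ k ih =>
    intro C hC hk
    obtain ⟨c, -, rfl⟩ := Finset.mem_image.1 hC
    have hsplit : gen (Subgroup.zpowers c) = ind (Subgroup.zpowers c) -
        ∑ D ∈ cyclics.filter (· < Subgroup.zpowers c), gen D := by
      funext x
      simp only [Pi.sub_apply, Finset.sum_apply, gen, ind]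
      rw [Finset.sum_ite_eq]
      simp only [Finset.mem_filter, cyclics, Finset.mem_image, Finset.mem_univ, true_and,
        exists_apply_eq_apply, lt_iff_le_and_ne, Subgroup.zpowers_le]
      by_cases hx : x ∈ Subgroup.zpowers c
      · by_cases he : Subgroup.zpowers x = Subgroup.zpowers c <;> simp [hx, he]
      · have : Subgroup.zpowers x ≠ Subgroup.zpowers c := fun h => hx (h ▸ Subgroup.mem_zpowers x)
        simp [hx, this]
    rw [hsplit]
    refine P.sub_mem (hind c) (P.sum_mem fun D hD => ?_)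
    obtain ⟨hD1, hD2⟩ := Finset.mem_filter.1 hD
    refine ih _ ?_ D hD1 rfl
    rw [← hk]
    exact Nat.lt_of_le_of_ne (Subgroup.card_le_of_le hD2.le)
      fun h => hD2.ne (Subgroup.eq_of_le_of_card_ge hD2.le h.ge)
  have hone : (fun _ : H => (1 : ℤ)) ∈ P := by
    have : (fun _ : H => (1 : ℤ)) = ∑ C ∈ cyclics, gen C := by
      funext x
      simp only [Finset.sum_apply, gen]
      rw [Finset.sum_ite_eq, if_pos (Finset.mem_image.2 ⟨x, Finset.mem_univ _, rfl⟩)]
    rw [this]
    exact P.sum_mem fun C hC => hgen _ C hC rfl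
  obtain ⟨Z, hZ, hZN⟩ := hone
  simp only [Int.cast_one, one_mul] at hZ hZN
  refine ⟨f ⊤, ?_⟩
  rw [hZ]
  suffices Z = (Nat.card H : ℤ) * f ⊤ by rw [this]; push_cast; ring
  by_contra hne
  have hd0 : (r : ℤ) * Z - (r : ℤ) * ((Nat.card H : ℤ) * f ⊤) ≠ 0 := by
    rw [← mul_sub]
    exact mul_ne_zero (by exact_mod_cast hr0.ne') (sub_ne_zero.2 hne)
  set δ := (r : ℤ) * Z - (r : ℤ) * ((Nat.card H : ℤ) * f ⊤) with hδ
  have hdvd : (p : ℤ) ^ (δ.natAbs + 1) ∣ δ := by
    rw [← Nat.cast_pow, ← ZMod.intCast_zmod_eq_zero_iff_dvd, hδ, Int.cast_sub, ← hZN δ.natAbs, sub_eq_zero]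
    have h := hτ δ.natAbs ⊤
    rw [Subgroup.card_top] at h
    rw [show (∑ x : H, τ δ.natAbs x) = ∑ x : (⊤ : Subgroup H), τ δ.natAbs x from
      (Fintype.sum_equiv (Subgroup.topEquiv (G := H)).toEquiv _ _ fun _ => rfl).symm, h]
    push_cast
    rw [← sub_eq_zero]
    ring
  have hdvd' : p ^ (δ.natAbs + 1) ∣ δ.natAbs := by
    have h2 := Int.natAbs_dvd_natAbs.2 hdvd
    rwa [Int.natAbs_pow, Int.natAbs_natCast] at h2
  have h3 := Nat.lt_pow_self (n := δ.natAbs + 1) (Fact.out : p.Prime).one_lt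
  have h4 := Nat.le_of_dvd (Int.natAbs_pos.2 hd0) hdvd'
  omega

end Sum

end Cfsg.Agent.GLCusp
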