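import Cfsg.Agent.Lib.Transfer.Cuspidal.PrimeModule
import Cfsg.Agent.Lib.Transfer.Cuspidal.LiftSum
import Cfsg.Agent.Lib.Char.StarConstruction

/-!
The lift of the trace of the natural representation is a generalized character.
-/

set_option autoImplicit false
set_option linter.unusedSectionVars false

namespace Cfsg.Agent.GLCusp

open Polynomial Cfsg.Agent.Char
open scoped MatrixGroups ComplexConjugate

universe u

variable {F : Type u} [Field F] [Fintype F] {L : Type u} [Field L] [Fintype L] [Algebra F L] {m : ℕ}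

theorem rootSum_charpoly (θ : L →*₀ ℂ) (A : Matrix (Fin m) (Fin m) F) :
    rootSum θ A.charpoly = lTr θ (A.map (algebraMap F L)) := by
  rw [rootSum, lTr, ← Matrix.charpoly_map]

theorem charpoly_pow_card_pow (A : Matrix (Fin m) (Fin m) F) (k : ℕ) :
    (A ^ Fintype.card F ^ k).charpoly = A.charpoly := by
  induction k with
  | zero => simp
  | succ k ih => rw [pow_succ, pow_mul, FiniteField.Matrix.charpoly_pow_card, ih]

/-- Integrality on nilpotent groups. -/
theorem exists_int_nilpotent (θ : L →*₀ ℂ) (hθ : Function.Injective θ)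
    (hs : ∀ A : Matrix (Fin m) (Fin m) F, (A.charpoly.map (algebraMap F L)).Splits)
    {H : Type u} [Group H] [Fintype H] (hH : Group.IsNilpotent H) (ρ : H →* GL (Fin m) F) (l : H →* ℂˣ) :
    ∃ z : ℤ, ∑ h : H, rootSum θ ((ρ h : GL (Fin m) F) : Matrix (Fin m) (Fin m) F).charpoly * conj ((l h : ℂ)) =
      (Nat.card H : ℂ) * z := by
  classical
  obtain ⟨p, hcp⟩ := CharP.exists F
  haveI : Fact p.Prime := ⟨CharP.char_is_prime F p⟩
  haveI : CharP L p := charP_of_injective_algebraMap (algebraMap F L).injective p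
  -- the splitting
  let P : Sylow p H := Classical.arbitrary _
  haveI hPn : (P : Subgroup H).Normal := by
    have h := (Group.isNilpotent_of_finite_tfae.out 0 3).1 hH
    exact h p inferInstance P
  have hcop : (Nat.card (P : Subgroup H)).Coprime (P : Subgroup H).index := by
    obtain ⟨k, hk⟩ := P.isPGroup'.exists_card_eq
    rw [hk]
    exact Nat.Coprime.pow_left k ((Nat.Prime.coprime_iff_not_dvd Fact.out).2 P.not_dvd_index)
  obtain ⟨C, hC⟩ := Subgroup.exists_right_complement'_of_coprime hcop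
  have hCp : ¬ p ∣ Nat.card C := by rw [← hC.symm.index_eq_card]; exact P.not_dvd_index
  haveI : Fintype (P : Subgroup H) := Fintype.ofFinite _
  let e : ↥(P : Subgroup H) × ↥C ≃ H := Equiv.ofBijective (fun x => (x.1 : H) * x.2) hC
  have hchar : ∀ (u : (P : Subgroup H)) (c : C),
      ((ρ ((u : H) * c) : GL (Fin m) F) : Matrix (Fin m) (Fin m) F).charpoly =
        ((ρ (c : H) : GL (Fin m) F) : Matrix (Fin m) (Fin m) F).charpoly := by
    intro u c
    obtain ⟨k, hk⟩ := IsPGroup.iff_orderOf.1 P.isPGroup' u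
    have hc : Commute (u : H) (c : H) := Cfsg.Agent.Char.Star.commute_of_coprime_order hH (by
      rw [Subgroup.orderOf_coe, Subgroup.orderOf_coe, hk]
      exact Nat.Coprime.pow_left k ((Nat.Prime.coprime_iff_not_dvd Fact.out).2
        fun h => hCp (h.trans (orderOf_dvd_natCard c))))
    obtain ⟨f, -, hf⟩ := FiniteField.card F p
    have hu : (u : H) ^ Fintype.card F ^ k = 1 := by
      rw [← orderOf_dvd_iff_pow_eq_one, Subgroup.orderOf_coe, hk, hf, ← pow_mul]
      exact pow_dvd_pow p (Nat.le_mul_of_pos_left k f.2)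
    rw [← charpoly_pow_card_pow _ k, ← Units.val_pow_eq_pow_val, ← map_pow, hc.mul_pow, hu, one_mul,
      map_pow, Units.val_pow_eq_pow_val, charpoly_pow_card_pow]
  have hconj : ∀ h : H, conj ((l h : ℂ)) = ((l h)⁻¹ : ℂˣ) := fun h => by
    rw [Units.val_inv_eq_inv_val, Complex.inv_eq_conj]
    exact Complex.norm_eq_one_of_pow_eq_one (n := orderOf h)
      (by rw [← Units.val_pow_eq_pow_val, ← map_pow, pow_orderOf_eq_one, map_one, Units.val_one])
      (orderOf_pos h).ne'
  have hsum : ∑ h : H, rootSum θ ((ρ h : GL (Fin m) F) : Matrix (Fin m) (Fin m) F).charpoly * conj ((l h : ℂ)) =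
      (∑ u : (P : Subgroup H), (((l⁻¹).comp (P : Subgroup H).subtype) u : ℂ)) *
        ∑ c : C, rootSum θ ((ρ (c : H) : GL (Fin m) F) : Matrix (Fin m) (Fin m) F).charpoly *
          (((l⁻¹).comp C.subtype) c : ℂ) := by
    rw [← e.sum_comp, Fintype.sum_prod_type, Finset.sum_mul_sum]
    refine Finset.sum_congr rfl fun u _ => Finset.sum_congr rfl fun c _ => ?_
    show rootSum θ ((ρ ((u : H) * c) : GL (Fin m) F) : Matrix (Fin m) (Fin m) F).charpoly *
      conj ((l ((u : H) * c) : ℂ)) = _
    rw [hchar, hconj, map_mul, mul_inv, Units.val_mul]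
    simp only [MonoidHom.comp_apply, MonoidHom.inv_apply, Subgroup.subtype_apply]
    ring
  rw [hsum, ← hC.card_mul, Nat.cast_mul]
  set lu := (l⁻¹).comp (P : Subgroup H).subtype
  set lc := (l⁻¹).comp C.subtype
  have horth : ∀ {K : Type u} [Group K] [Fintype K] (χ : K →* ℂˣ), χ ≠ 1 → ∑ k : K, (χ k : ℂ) = 0 := by
    intro K _ _ χ hχ
    exact sum_hom_units_eq_zero ((Units.coeHom ℂ).comp χ) fun h =>
      hχ (MonoidHom.ext fun k => Units.ext (DFunLike.congr_fun h k))
  by_cases hlu : lu = 1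
  swap
  · exact ⟨0, by rw [horth lu hlu]; simp⟩
  have hU : ∑ u : (P : Subgroup H), (lu u : ℂ) = Nat.card (P : Subgroup H) := by
    simp [hlu, Nat.card_eq_fintype_card]
  -- the part of order prime to the characteristic
  let ρL : C →* GL (Fin m) L := (Matrix.GeneralLinearGroup.map (algebraMap F L)).comp (ρ.comp C.subtype)
  have hρv : ∀ c : C, ((ρL c : GL (Fin m) L) : Matrix (Fin m) (Fin m) L) =
      ((ρ (c : H) : GL (Fin m) F) : Matrix (Fin m) (Fin m) F).map (algebraMap F L) := fun c => rfl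
  have hoL : ∀ c : C, (orderOf c : L) ≠ 0 := fun c h =>
    hCp (((CharP.cast_eq_zero_iff L p _).1 h).trans (orderOf_dvd_natCard c))
  have hdiag : ∀ c : C, ∃ (Q Q' : Matrix (Fin m) (Fin m) L) (v : Fin m → L), Q * Q' = 1 ∧ Q' * Q = 1 ∧
      ((ρL c : GL (Fin m) L) : Matrix (Fin m) (Fin m) L) = Q * Matrix.diagonal v * Q' ∧
      ∀ i, v i ^ orderOf c = 1 := fun c => exists_conj_diagonal _ (hoL c)
    (by rw [← Units.val_pow_eq_pow_val, ← map_pow, pow_orderOf_eq_one, map_one, Units.val_one])
    (by rw [hρv, Matrix.charpoly_map]; exact hs _)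
  set N := Fintype.card Lˣ with hN
  haveI : NeZero N := ⟨Fintype.card_ne_zero⟩
  have hρN : ∀ c : C, ρL c ^ N = 1 := by
    intro c
    obtain ⟨Q, Q', v, h1, h2, he, hv⟩ := hdiag c
    refine Units.ext ?_
    rw [Units.val_pow_eq_pow_val, he, conj_pow v h1 h2, Units.val_one,
      show v ^ N = fun _ => 1 from funext fun i => ?_, Matrix.diagonal_one, Matrix.mul_one, h1]
    have h0 : v i ≠ 0 := fun h => by simpa [h, zero_pow (orderOf_pos c).ne'] using hv i
    have := pow_card_eq_one (x := Units.mk0 (v i) h0)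
    exact congrArg Units.val this
  by_cases hker : ∀ c ∈ ρL.ker, lc c = 1
  swap
  · refine ⟨0, ?_⟩
    push Not at hker
    obtain ⟨c0, hc0, hne⟩ := hker
    have hzero : ∑ c : C, rootSum θ ((ρ (c : H) : GL (Fin m) F) : Matrix (Fin m) (Fin m) F).charpoly *
        (lc c : ℂ) = 0 := by
      set S := ∑ c : C, rootSum θ ((ρ (c : H) : GL (Fin m) F) : Matrix (Fin m) (Fin m) F).charpoly *
        (lc c : ℂ)
      have h : S = S * (lc c0 : ℂ) := by
        rw [Finset.sum_mul]
        refine (Fintype.sum_equiv (Equiv.mulRight c0) _ _ fun c => ?_).symm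
        have hc : ρ ((c * c0 : C) : H) = ρ (c : H) := by
          refine Units.ext (Matrix.map_injective (algebraMap F L).injective ?_)
          show ((ρL (c * c0) : GL (Fin m) L) : Matrix (Fin m) (Fin m) L) = ((ρL c : GL (Fin m) L) : Matrix (Fin m) (Fin m) L)
          rw [map_mul, MonoidHom.mem_ker.1 hc0, mul_one]
        rw [Equiv.coe_mulRight, hc, map_mul, Units.val_mul, mul_assoc]
      have h2 : S * ((lc c0 : ℂ) - 1) = 0 := by rw [mul_sub, mul_one, ← h, sub_self]
      exact (mul_eq_zero.1 h2).resolve_right (sub_ne_zero.2 fun he => hne (Units.ext he))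
    rw [hzero]; simp
  have hlN : ∀ c : C, lc c ∈ rootsOfUnity N ℂ := fun c => by
    rw [mem_rootsOfUnity, ← map_pow]
    exact hker _ (by rw [MonoidHom.mem_ker, map_pow, hρN])
  let θu : Lˣ →* rootsOfUnity N ℂ := (Units.map θ.toMonoidHom).codRestrict _ fun x => by
    rw [mem_rootsOfUnity, ← map_pow, pow_card_eq_one, map_one]
  have hθu : Function.Bijective θu := by
    rw [Nat.bijective_iff_injective_and_card]
    refine ⟨fun x y h => Units.ext (hθ (congrArg (fun t : rootsOfUnity N ℂ => ((t : ℂˣ) : ℂ)) h)), ?_⟩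
    rw [Complex.card_rootsOfUnity, Nat.card_eq_fintype_card]
  let μ : C →* Lˣ := (MulEquiv.ofBijective θu hθu).symm.toMonoidHom.comp (lc.codRestrict _ hlN)
  have hμ : ∀ c : C, θ (μ c : L) = (lc c : ℂ) := fun c =>
    congrArg (fun t : rootsOfUnity N ℂ => ((t : ℂˣ) : ℂ))
      ((MulEquiv.ofBijective θu hθu).apply_symm_apply (lc.codRestrict _ hlN c))
  let ρ' : C →* GL (Fin m) L :=
    { toFun := fun c => Units.map (algebraMap L (Matrix (Fin m) (Fin m) L)).toMonoidHom (μ c) * ρL c
      map_one' := by simp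
      map_mul' := fun a b => Units.ext (by
        simp only [map_mul, Units.val_mul, Units.coe_map, RingHom.toMonoidHom_eq_coe, MonoidHom.coe_coe]
        simp only [mul_assoc]
        congr 1
        rw [← mul_assoc, Algebra.commutes, mul_assoc]) }
  have hρ'v : ∀ c : C, ∀ Q Q' : Matrix (Fin m) (Fin m) L, ∀ v : Fin m → L,
      ((ρL c : GL (Fin m) L) : Matrix (Fin m) (Fin m) L) = Q * Matrix.diagonal v * Q' →
      ((ρ' c : GL (Fin m) L) : Matrix (Fin m) (Fin m) L) =
        Q * Matrix.diagonal ((μ c : L) • v) * Q' := fun c Q Q' v h => by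
    show algebraMap L _ (μ c : L) * _ = _
    rw [h, ← Algebra.smul_def, Matrix.diagonal_smul, Matrix.mul_smul, Matrix.smul_mul]
  have hs' : ∀ c : C, ((ρ' c : GL (Fin m) L) : Matrix (Fin m) (Fin m) L).charpoly.Splits := by
    intro c
    obtain ⟨Q, Q', v, h1, h2, he, -⟩ := hdiag c
    rw [hρ'v c Q Q' v he, Matrix.charpoly_mul_comm, ← Matrix.mul_assoc, h2, Matrix.one_mul,
      Matrix.charpoly_diagonal]
    exact Polynomial.Splits.prod fun i _ => Polynomial.Splits.X_sub_C _
  haveI : Fintype C := Fintype.ofFinite _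
  obtain ⟨z, hz⟩ := sum_lTr θ hθ hCp ρ' hs'
  refine ⟨z, ?_⟩
  have hterm : ∀ c : C, rootSum θ ((ρ (c : H) : GL (Fin m) F) : Matrix (Fin m) (Fin m) F).charpoly * (lc c : ℂ) =
      lTr θ ((ρ' c : GL (Fin m) L) : Matrix (Fin m) (Fin m) L) := by
    intro c
    obtain ⟨Q, Q', v, h1, h2, he, -⟩ := hdiag c
    rw [rootSum_charpoly, ← hρv, he, hρ'v c Q Q' v he, lTr_conj_diagonal θ _ h2, lTr_conj_diagonal θ _ h2,
      Finset.sum_mul]
    refine Finset.sum_congr rfl fun i _ => ?_
    rw [Pi.smul_apply, smul_eq_mul, map_mul, hμ, mul_comm]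
  rw [hU, Finset.sum_congr rfl fun c _ => hterm c]
  rw [mul_assoc]
  congr 1
  convert hz using 2
  ext x; simp

/-- The lift of the trace is a generalized character. -/
theorem isGenChar_trace [DecidableEq F] (θ : L →*₀ ℂ) (hθ : Function.Injective θ)
    (hs : ∀ A : Matrix (Fin m) (Fin m) F, (A.charpoly.map (algebraMap F L)).Splits) :
    IsGeneralizedCharacter (GL (Fin m) F)
      (fun g => rootSum θ ((g : GL (Fin m) F) : Matrix (Fin m) (Fin m) F).charpoly) := by
  classical
  set T : GL (Fin m) F → ℂ := fun g => rootSum θ ((g : GL (Fin m) F) : Matrix (Fin m) (Fin m) F).charpoly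
  have hT : IsClassFunction (GL (Fin m) F) T := fun g h => by
    show rootSum θ _ = rootSum θ _
    rw [Units.val_mul, Units.val_mul, Matrix.coe_units_inv, Matrix.charpoly_units_conj]
  refine Brauer.isGenChar_of_elementary hT fun E hE => ?_
  obtain ⟨r, hr, hEl⟩ := hE
  haveI := Fact.mk hr
  haveI : Fintype E := Fintype.ofFinite E
  have hTE : IsClassFunction E (fun e : E => T e) := fun g h => hT g h
  refine Star.isGenChar_of_inner hTE fun ψ => ?_
  obtain ⟨K, l, hl⟩ := Brauer.monomial (Brauer.isNilpotent_of_elementary hr hEl) ψ.2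
  haveI : Fintype K := Fintype.ofFinite K
  haveI := Brauer.isNilpotent_of_elementary hr hEl
  obtain ⟨z, hz⟩ := exists_int_nilpotent θ hθ hs (H := K) inferInstance (E.subtype.comp K.subtype) l
  refine ⟨z, ?_⟩
  rw [hl, classInner_indFun_right K _ hTE, classInner,
    show (∑ g : K, T ((g : E) : GL (Fin m) F) * conj ((l g : ℂ))) = (Nat.card K : ℂ) * z from hz,
    ← mul_assoc, inv_mul_cancel₀ (Nat.cast_ne_zero.mpr Nat.card_pos.ne'), one_mul]

end Cfsg.Agent.GLCusp
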