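import Cfsg.Agent.Lib.Transfer.Cuspidal.Coset
import Cfsg.Agent.Lib.Transfer.Cuspidal.TraceLift

/-!
The weight `phi` is a generalized character of the general linear group.
-/

set_option autoImplicit false
set_option linter.unusedSectionVars false

namespace Cfsg.Agent.GLCusp

open Polynomial Cfsg.Agent.Char
open scoped MatrixGroups

universe u v w

/-- A sum over the fixed points of equivariant data is a generalized character. -/
theorem isGenChar_fixed_sum {G : Type u} [Group G] [Fintype G] {Ω : Type v} [Fintype Ω] [MulAction G Ω]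
    [DecidableEq Ω] (f : Ω → G → ℂ) (hf : ∀ (x : G) (ω : Ω) (g : G), f (x • ω) (x * g * x⁻¹) = f ω g)
    (hgen : ∀ ω : Ω, IsGeneralizedCharacter (MulAction.stabilizer G ω) (fun g => f ω g)) :
    IsGeneralizedCharacter G (fun g => ∑ ω, if g • ω = ω then f ω g else 0) := by
  classical
  haveI : Fintype (MulAction.orbitRel.Quotient G Ω) := Fintype.ofFinite _
  have key : ∀ (ω : Ω) (g : G),
      indFun (MulAction.stabilizer G ω) (fun s => f ω s) g =
        ∑ y ∈ Finset.univ.filter (fun y : Ω => (⟦y⟧ : MulAction.orbitRel.Quotient G Ω) = ⟦ω⟧),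
          if g • y = y then f y g else 0 := by
    intro ω g
    haveI : Fintype (MulAction.stabilizer G ω) := Fintype.ofFinite _
    have hterm : ∀ x : G, extendByZero (MulAction.stabilizer G ω) (fun s => f ω s) (x⁻¹ * g * x) =
        if g • x • ω = x • ω then f (x • ω) g else 0 := by
      intro x
      have hiff : x⁻¹ * g * x ∈ MulAction.stabilizer G ω ↔ g • x • ω = x • ω := by
        rw [MulAction.mem_stabilizer_iff, mul_smul, mul_smul, inv_smul_eq_iff]
      by_cases h : g • x • ω = x • ω
      · rw [if_pos h, extendByZero_of_mem _ (hiff.2 h)]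
        show f ω (x⁻¹ * g * x) = _
        rw [← hf x ω (x⁻¹ * g * x)]
        congr 1
        group
      · rw [if_neg h, extendByZero_not_mem _ fun h' => h (hiff.1 h')]
    rw [indFun, Finset.sum_congr rfl fun x _ => hterm x,
      ← Finset.sum_fiberwise_of_maps_to (g := fun x : G => x • ω)
        (t := Finset.univ.filter (fun y : Ω => (⟦y⟧ : MulAction.orbitRel.Quotient G Ω) = ⟦ω⟧))
        (fun x _ => Finset.mem_filter.2 ⟨Finset.mem_univ _, Quotient.sound (MulAction.mem_orbit ω x)⟩),
      Finset.mul_sum]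
    refine Finset.sum_congr rfl fun y hy => ?_
    obtain ⟨x0, hx0⟩ : ∃ x : G, x • ω = y := Quotient.exact (Finset.mem_filter.1 hy).2
    rw [Finset.sum_congr rfl (fun x hx => by rw [(Finset.mem_filter.1 hx).2] :
      ∀ x ∈ Finset.univ.filter (fun x : G => x • ω = y),
        (if g • x • ω = x • ω then f (x • ω) g else 0) = if g • y = y then f y g else 0),
      Finset.sum_const, nsmul_eq_mul, ← mul_assoc]
    have hcard : (Finset.univ.filter fun x : G => x • ω = y).card = Nat.card (MulAction.stabilizer G ω) := by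
      rw [← Fintype.card_subtype, ← Nat.card_eq_fintype_card]
      exact Nat.card_congr
        { toFun := fun x => ⟨x0⁻¹ * x.1, by rw [MulAction.mem_stabilizer_iff, mul_smul, x.2, inv_smul_eq_iff, hx0]⟩
          invFun := fun s => ⟨x0 * s.1, by rw [mul_smul, MulAction.mem_stabilizer_iff.1 s.2, hx0]⟩
          left_inv := fun x => Subtype.ext (mul_inv_cancel_left _ _)
          right_inv := fun s => Subtype.ext (inv_mul_cancel_left _ _) }
    rw [hcard, inv_mul_cancel₀ (Nat.cast_ne_zero.mpr Nat.card_pos.ne'), one_mul]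
  have h : (fun g => ∑ ω, if g • ω = ω then f ω g else 0) =
      ∑ c : MulAction.orbitRel.Quotient G Ω, indFun (MulAction.stabilizer G c.out) (fun s => f c.out s) := by
    funext g
    rw [Finset.sum_apply, ← Finset.sum_fiberwise Finset.univ (fun y : Ω => (⟦y⟧ : MulAction.orbitRel.Quotient G Ω))]
    refine Finset.sum_congr rfl fun c _ => ?_
    rw [key]
    simp only [Quotient.out_eq]
  rw [h]
  exact IsGenChar.sum fun c _ => IsGenChar.ind _ (hgen _)

section Modules

variable {F : Type u} [Field F] [Fintype F] {L : Type u} [Field L] [Algebra F L]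
variable {V : Type u} [AddCommGroup V] [Module F V] [Finite V]

theorem phi_aeval_congr (θ : L → ℂ) {V' : Type u} [AddCommGroup V'] [Module F V'] (e : V ≃ₗ[F] V')
    {f : V →ₗ[F] V} {f' : V' →ₗ[F] V'} (h : ∀ x, e (f x) = f' (e x)) :
    phi F θ (Module.AEval' f) = phi F θ (Module.AEval' f') :=
  phi_congr θ (LinearEquiv.ofAEval f (e.trans (Module.AEval'.of f')) fun x => by
    rw [LinearEquiv.trans_apply, LinearEquiv.trans_apply, Module.AEval'.X_smul_of]
    exact congrArg _ (h x))

/-- The weight of the restriction to a subspace. -/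
noncomputable def phiRes (θ : L → ℂ) (W : Submodule F V) (f : V →ₗ[F] V) : ℂ :=
  @dite ℂ (W ≤ W.comap f) (Classical.propDecidable _) (fun h => phi F θ (Module.AEval' (f.restrict h))) fun _ => 0

theorem phiRes_pos (θ : L → ℂ) {W : Submodule F V} {f : V →ₗ[F] V} (h : W ≤ W.comap f) :
    phiRes θ W f = phi F θ (Module.AEval' (f.restrict h)) := dif_pos h

theorem phiRes_neg (θ : L → ℂ) {W : Submodule F V} {f : V →ₗ[F] V} (h : ¬ W ≤ W.comap f) :
    phiRes θ W f = 0 := dif_neg h

theorem phiRes_map (θ : L → ℂ) (e : V ≃ₗ[F] V) (W : Submodule F V) {f f' : V →ₗ[F] V}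
    (h : ∀ x, e (f x) = f' (e x)) : phiRes θ (W.map e.toLinearMap) f' = phiRes θ W f := by
  have hiff : W ≤ W.comap f ↔ W.map e.toLinearMap ≤ (W.map e.toLinearMap).comap f' := by
    constructor
    · rintro hW _ ⟨x, hx, rfl⟩
      exact ⟨f x, hW hx, h x⟩
    · intro hW x hx
      obtain ⟨y, hy, hxy⟩ := hW ⟨x, hx, rfl⟩
      have : y = f x := e.injective (hxy.trans (h x).symm)
      rw [Submodule.mem_comap, ← this]
      exact hy
  by_cases hW : W ≤ W.comap f
  · rw [phiRes_pos θ (hiff.1 hW), phiRes_pos θ hW]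
    exact (phi_aeval_congr θ (e.submoduleMap W) (f := f.restrict hW) (f' := f'.restrict (hiff.1 hW))
      fun x => Subtype.ext (h x.1)).symm
  · rw [phiRes_neg θ fun h' => hW (hiff.2 h'), phiRes_neg θ hW]

/-- A subspace as a submodule. -/
noncomputable def aSub (f : V →ₗ[F] V) (W : Submodule F V) (h : W ≤ W.comap f) : Submodule F[X] (Module.AEval' f) :=
  Module.AEval.mapSubmodule F V f ⟨W, h⟩

theorem phi_aSub (θ : L → ℂ) (f : V →ₗ[F] V) (W : Submodule F V) (h : W ≤ W.comap f) :
    phi F θ (aSub f W h) = phiRes θ W f := by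
  rw [phiRes_pos θ h]
  exact (phi_congr θ (LinearEquiv.ofAEval (f.restrict h) (Module.AEval.equiv_mapSubmodule f W h) fun x =>
    Subtype.ext (Module.AEval'.X_smul_of f (x : V)).symm)).symm

/-- The recursion. -/
theorem eigSum_eq (θ : L → ℂ) (f : V →ₗ[F] V) [Fintype (Submodule F V)] :
    rootSum θ f.charpoly = ∑ W : Submodule F V, phiRes θ W f := by
  classical
  haveI : Module.Finite F V := Module.Finite.of_finite
  letI : Fintype (Submodule F[X] (Module.AEval' f)) := Fintype.ofFinite _
  have h1 : eigSum F θ (Module.AEval' f) = rootSum θ f.charpoly := by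
    show rootSum θ (xEnd F (Module.AEval' f)).charpoly = _
    have hconj : xEnd F (Module.AEval' f) = (Module.AEval'.of f).conj f := LinearMap.ext fun m => by
      rw [LinearEquiv.conj_apply_apply, xEnd_apply]
      conv_lhs => rw [← (Module.AEval'.of f).apply_symm_apply m, Module.AEval'.X_smul_of]
    rw [hconj, LinearEquiv.charpoly_conj]
  rw [← h1, ← sum_phi (M := Module.AEval' f) θ,
    ← Finset.sum_filter_of_ne (s := (Finset.univ : Finset (Submodule F V))) (p := fun W => W ≤ W.comap f)
      (fun W _ hne => by by_contra h; exact hne (phiRes_neg θ h))]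
  symm
  refine Finset.sum_bij (fun W hW => aSub f W (Finset.mem_filter.1 hW).2) (fun _ _ => Finset.mem_univ _)
    (fun W hW W' hW' he => ?_) (fun N _ => ?_) (fun W hW => (phi_aSub θ f W _).symm)
  · exact congrArg Subtype.val ((Module.AEval.mapSubmodule F V f).injective he)
  · refine ⟨((Module.AEval.mapSubmodule F V f).symm N).1, Finset.mem_filter.2 ⟨Finset.mem_univ _,
      ((Module.AEval.mapSubmodule F V f).symm N).2⟩, ?_⟩
    exact (Module.AEval.mapSubmodule F V f).apply_symm_apply N

theorem phiRes_top (θ : L → ℂ) (f : V →ₗ[F] V) :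
    phiRes θ (⊤ : Submodule F V) f = phi F θ (Module.AEval' f) := by
  rw [phiRes_pos θ (by simp)]
  exact phi_aeval_congr θ Submodule.topEquiv fun x => rfl

end Modules

variable {F : Type u} [Field F] [Fintype F] {L : Type u} [Field L] [Algebra F L]

/-- The weight as a function on the general linear group. -/
noncomputable def cusp (θ : L → ℂ) (m : ℕ) (g : GL (Fin m) F) : ℂ :=
  phi F θ (Module.AEval' (Matrix.toLin' (g : Matrix (Fin m) (Fin m) F)))

/-- The proper subspaces, with the action of the general linear group. -/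
structure PSub (F : Type u) [Field F] (m : ℕ) where
  /-- the subspace -/
  W : Submodule F (Fin m → F)
  ne_top : W ≠ ⊤

instance {m : ℕ} : Finite (PSub F m) :=
  Finite.of_injective PSub.W fun a b h => by cases a; cases b; cases h; rfl

noncomputable instance {m : ℕ} : MulAction (GL (Fin m) F) (PSub F m) where
  smul g ω := ⟨ω.W.map (Matrix.GeneralLinearGroup.toLin g).toLinearEquiv.toLinearMap, fun h => ω.ne_top (by
    refine Submodule.map_injective_of_injective
      (Matrix.GeneralLinearGroup.toLin g).toLinearEquiv.injective ?_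
    refine h.trans ?_
    rw [Submodule.map_top, LinearEquiv.range])⟩
  one_smul ω := by
    cases ω with
    | mk W h =>
      show PSub.mk _ _ = PSub.mk _ _
      congr
      rw [map_one]
      exact Submodule.map_id W
  mul_smul a b ω := by
    cases ω with
    | mk W h =>
      show PSub.mk _ _ = PSub.mk _ _
      congr 1
      rw [map_mul]
      exact Submodule.map_comp _ _ W

theorem smul_W {m : ℕ} (g : GL (Fin m) F) (ω : PSub F m) :
    (g • ω).W = ω.W.map (Matrix.GeneralLinearGroup.toLin g).toLinearEquiv.toLinearMap := rfl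

theorem toLin_apply {m : ℕ} (g : GL (Fin m) F) (x : Fin m → F) :
    (Matrix.GeneralLinearGroup.toLin g).toLinearEquiv x = Matrix.toLin' (g : Matrix (Fin m) (Fin m) F) x := rfl

theorem fixed_iff {m : ℕ} (g : GL (Fin m) F) (ω : PSub F m) :
    g • ω = ω ↔ ω.W ≤ ω.W.comap (Matrix.toLin' (g : Matrix (Fin m) (Fin m) F)) := by
  constructor
  · intro h x hx
    have : (Matrix.GeneralLinearGroup.toLin g).toLinearEquiv x ∈ (g • ω).W := by
      rw [smul_W]; exact Submodule.mem_map_of_mem hx
    rw [h] at this
    exact this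
  · intro h
    have hle : (g • ω).W ≤ ω.W := by
      rw [smul_W]; rintro _ ⟨x, hx, rfl⟩; exact h hx
    have he : (g • ω).W = ω.W := Submodule.eq_of_le_of_finrank_le hle
      (le_of_eq (by rw [smul_W, LinearEquiv.finrank_map_eq]))
    obtain ⟨W, hW⟩ := ω
    cases hg : g • (⟨W, hW⟩ : PSub F m)
    simp only [hg] at he
    subst he
    rfl

theorem cusp_gen [Fintype L] (θ : L →*₀ ℂ) (hθ : Function.Injective θ) {n : ℕ}
    (hs : ∀ a ≤ n, ∀ A : Matrix (Fin a) (Fin a) F, (A.charpoly.map (algebraMap F L)).Splits) :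
    ∀ m ≤ n, IsGeneralizedCharacter (GL (Fin m) F) (cusp (⇑θ) m) := by
  classical
  intro m
  induction m using Nat.strong_induction_on with
  | _ m ih =>
  intro hm
  haveI : Fintype (PSub F m) := Fintype.ofFinite _
  letI : Fintype (Submodule F (Fin m → F)) := Fintype.ofFinite _
  have hrec : cusp (⇑θ) m =
      (fun g : GL (Fin m) F => rootSum θ (g : Matrix (Fin m) (Fin m) F).charpoly) -
      (fun g : GL (Fin m) F => ∑ ω : PSub F m, if g • ω = ω then
        phiRes (⇑θ) ω.W (Matrix.toLin' (g : Matrix (Fin m) (Fin m) F)) else 0) := by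
    funext g
    rw [Pi.sub_apply, eq_sub_iff_add_eq, ← Matrix.charpoly_toLin', eigSum_eq,
      ← Finset.add_sum_erase (Finset.univ : Finset (Submodule F (Fin m → F))) _ (Finset.mem_univ ⊤), phiRes_top]
    congr 1
    refine Finset.sum_bij (fun ω _ => ω.W) (fun ω _ => Finset.mem_erase.2 ⟨ω.ne_top, Finset.mem_univ _⟩)
      (fun a _ b _ h => by cases a; cases b; cases h; rfl)
      (fun W hW => ⟨⟨W, (Finset.mem_erase.1 hW).1⟩, Finset.mem_univ _, rfl⟩) (fun ω _ => ?_)
    split_ifs with h
    · rfl
    · exact (phiRes_neg _ fun h' => h ((fixed_iff g ω).2 h')).symm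
  rw [hrec]
  refine IsGenChar.sub (isGenChar_trace θ hθ (hs m hm)) (isGenChar_fixed_sum _ ?_ ?_)
  · intro x ω g
    rw [smul_W]
    refine phiRes_map _ _ ω.W fun y => ?_
    simp only [toLin_apply, Units.val_mul, Matrix.toLin'_apply, Matrix.mulVec_mulVec]
    rw [mul_assoc, mul_assoc, Units.inv_mul, mul_one]
  · intro ω
    set a := Module.finrank F ω.W with ha
    have ham : a < m := by
      have := Submodule.finrank_lt ω.ne_top
      rwa [Module.finrank_fin_fun] at this
    let b := Module.finBasisOfFinrankEq F ω.W (n := a) rfl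
    have hinv : ∀ g : MulAction.stabilizer (GL (Fin m) F) ω,
        ω.W ≤ ω.W.comap (Matrix.toLin' ((g : GL (Fin m) F) : Matrix (Fin m) (Fin m) F)) := fun g =>
      (fixed_iff _ ω).1 g.2
    let σ : MulAction.stabilizer (GL (Fin m) F) ω →* Module.End F ω.W :=
      { toFun := fun g => (Matrix.toLin' ((g : GL (Fin m) F) : Matrix (Fin m) (Fin m) F)).restrict (hinv g)
        map_one' := LinearMap.ext fun y => Subtype.ext (by simp [LinearMap.restrict_apply])
        map_mul' := fun g h => LinearMap.ext fun y => Subtype.ext (by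
          simp [LinearMap.restrict_apply, Matrix.mulVec_mulVec]) }
    let π : MulAction.stabilizer (GL (Fin m) F) ω →* GL (Fin a) F :=
      ((LinearMap.toMatrixAlgEquiv b).toMonoidHom.comp σ).toHomUnits
    have he : (fun g : MulAction.stabilizer (GL (Fin m) F) ω =>
        phiRes (⇑θ) ω.W (Matrix.toLin' ((g : GL (Fin m) F) : Matrix (Fin m) (Fin m) F))) =
        fun g => cusp (⇑θ) a (π g) := by
      funext g
      rw [phiRes_pos _ (hinv g)]
      refine phi_aeval_congr _ b.equivFun fun y => ?_
      have h := LinearMap.toMatrix_mulVec_repr b b (σ g) y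
      exact h.symm
    rw [he]
    exact IsGenChar.comp π (ih a ham (ham.le.trans hm))

end Cfsg.Agent.GLCusp
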