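import Cfsg.Agent.Lib.Transfer.Cuspidal.Cyclic

/-!
Inner products of the weights on the general linear group.
-/

set_option autoImplicit false
set_option linter.unusedSectionVars false

namespace Cfsg.Agent.GLCusp

open Polynomial
open scoped MatrixGroups ComplexConjugate

universe u

variable {F : Type u} [Field F] [Fintype F] {L : Type u} [Field L] [Algebra F L]

section Average

variable {V : Type u} [AddCommGroup V] [Module F V] [Finite V]

theorem shift_neg_shift (W : Submodule F V) (s : V →ₗ[F] V) (u : (V ⧸ W) →ₗ[F] W) :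
    shift W (shift W s u) (-u) = s := by
  ext x
  simp [shift]

theorem le_comap_shift_iff (W : Submodule F V) (s : V →ₗ[F] V) (u : (V ⧸ W) →ₗ[F] W) :
    W ≤ W.comap (shift W s u) ↔ W ≤ W.comap s :=
  ⟨fun h => shift_neg_shift W s u ▸ shift_le_comap h (-u), fun h => shift_le_comap h u⟩

/-- Averaging over the shifts. -/
theorem sum_phi_weight_eq_zero (θ : L → ℂ) (W : Submodule F V) (hW0 : W ≠ ⊥) (hW1 : W ≠ ⊤)
    [Fintype (V →ₗ[F] V)] (w : (V →ₗ[F] V) → ℂ) (hw0 : ∀ s, ¬ W ≤ W.comap s → w s = 0)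
    (hw : ∀ s, W ≤ W.comap s → ∀ u, w (shift W s u) = w s) :
    ∑ s : V →ₗ[F] V, phi F θ (Module.AEval' s) * w s = 0 := by
  classical
  haveI : Finite ((V ⧸ W) →ₗ[F] W) :=
    Finite.of_injective (fun f : (V ⧸ W) →ₗ[F] W => (f : (V ⧸ W) → W)) DFunLike.coe_injective
  letI : Fintype ((V ⧸ W) →ₗ[F] W) := Fintype.ofFinite _
  have key : ∀ u : (V ⧸ W) →ₗ[F] W,
      ∑ s : V →ₗ[F] V, phi F θ (Module.AEval' (shift W s u)) * w (shift W s u) =
        ∑ s : V →ₗ[F] V, phi F θ (Module.AEval' s) * w s := fun u =>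
    Fintype.sum_equiv (Equiv.addRight (W.subtype ∘ₗ u ∘ₗ W.mkQ)) _ _ fun s => rfl
  have h2 : (Fintype.card ((V ⧸ W) →ₗ[F] W) : ℂ) * ∑ s : V →ₗ[F] V, phi F θ (Module.AEval' s) * w s = 0 := by
    rw [← nsmul_eq_mul, ← Finset.card_univ, ← Finset.sum_const,
      ← Finset.sum_congr rfl (fun u _ => key u), Finset.sum_comm]
    refine Finset.sum_eq_zero fun s _ => ?_
    by_cases hs : W ≤ W.comap s
    · rw [Finset.sum_congr rfl (fun u _ => by rw [hw s hs u] :
        ∀ u ∈ (Finset.univ : Finset ((V ⧸ W) →ₗ[F] W)),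
          phi F θ (Module.AEval' (shift W s u)) * w (shift W s u) =
            phi F θ (Module.AEval' (shift W s u)) * w s), ← Finset.sum_mul,
        sum_shift_eq_zero θ W s hs hW0 hW1, zero_mul]
    · refine Finset.sum_eq_zero fun u _ => ?_
      rw [hw0 _ fun h => hs ((le_comap_shift_iff W s u).1 h), mul_zero]
  exact (mul_eq_zero.1 h2).resolve_left (Nat.cast_ne_zero.2 Fintype.card_ne_zero)

theorem charpoly_shift [Module.Finite F V] {W : Submodule F V} {s : V →ₗ[F] V} (hs : W ≤ W.comap s)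
    (u : (V ⧸ W) →ₗ[F] W) : (shift W s u).charpoly = s.charpoly := by
  rw [InvCharpoly.charpoly_mul W _ (shift_le_comap hs u), InvCharpoly.charpoly_mul W s hs]
  have h1 : (shift W s u).restrict (shift_le_comap hs u) = s.restrict hs :=
    LinearMap.ext fun x => Subtype.ext (shift_apply_mem W s u x.2)
  have h2 : W.mapQ W (shift W s u) (shift_le_comap hs u) = W.mapQ W s hs :=
    Submodule.linearMap_qext _ (LinearMap.ext fun x => by
      simp only [LinearMap.comp_apply, Submodule.mkQ_apply, Submodule.mapQ_apply]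
      exact mkQ_shift W s u x)
  rw [h1, h2]

theorem phiRes_shift (θ : L → ℂ) {W : Submodule F V} {s : V →ₗ[F] V} (hs : W ≤ W.comap s)
    (u : (V ⧸ W) →ₗ[F] W) : phiRes θ W (shift W s u) = phiRes θ W s := by
  rw [phiRes_pos θ (shift_le_comap hs u), phiRes_pos θ hs]
  have h1 : (shift W s u).restrict (shift_le_comap hs u) = s.restrict hs :=
    LinearMap.ext fun x => Subtype.ext (shift_apply_mem W s u x.2)
  rw [h1]

theorem cyc_shift {W : Submodule F V} {s : V →ₗ[F] V} (hs : W ≤ W.comap s)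
    (u : (V ⧸ W) →ₗ[F] W) {v : V} (hv : v ∈ W) : cyc (shift W s u) v = cyc s v := by
  have h : ∀ i : ℕ, ((shift W s u) ^ i) v = (s ^ i) v ∧ (s ^ i) v ∈ W := by
    intro i
    induction i with
    | zero => exact ⟨rfl, hv⟩
    | succ i ih =>
      rw [pow_succ', Module.End.mul_apply, pow_succ', Module.End.mul_apply, ih.1,
        shift_apply_mem W s u ih.2]
      exact ⟨rfl, hs ih.2⟩
  rw [cyc, cyc, funext fun i => (h i).1]

end Average

variable {n : ℕ}

theorem sum_GL [DecidableEq F] [Fintype ((Fin n → F) →ₗ[F] (Fin n → F))]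
    (f : ((Fin n → F) →ₗ[F] (Fin n → F)) → ℂ) :
    ∑ g : GL (Fin n) F, f (Matrix.toLin' (g : Matrix (Fin n) (Fin n) F)) =
      ∑ s : (Fin n → F) →ₗ[F] (Fin n → F), if s.charpoly.coeff 0 ≠ 0 then f s else 0 := by
  classical
  have hiff : ∀ A : Matrix (Fin n) (Fin n) F, A.charpoly.coeff 0 ≠ 0 ↔ A.det ≠ 0 := fun A => by
    rw [Matrix.det_eq_sign_charpoly_coeff]
    simp
  rw [← Finset.sum_filter]
  refine Finset.sum_bij (fun g _ => Matrix.toLin' (g : Matrix (Fin n) (Fin n) F)) (fun g _ => ?_)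
    (fun a _ b _ h => Units.ext (Matrix.toLin'.injective h)) (fun s hs => ?_) (fun g _ => rfl)
  · rw [Finset.mem_filter, Matrix.charpoly_toLin', hiff]
    exact ⟨Finset.mem_univ _, ((Matrix.isUnit_iff_isUnit_det _).1 g.isUnit).ne_zero⟩
  · obtain ⟨A, rfl⟩ := Matrix.toLin'.surjective s
    rw [Finset.mem_filter, Matrix.charpoly_toLin', hiff] at hs
    exact ⟨Matrix.GeneralLinearGroup.mkOfDetNeZero A hs.2, Finset.mem_univ _, rfl⟩

/-- The products with proper weights vanish. -/
theorem sum_GL_weight [DecidableEq F] (θ : L → ℂ) (W : Submodule F (Fin n → F)) (hW0 : W ≠ ⊥) (hW1 : W ≠ ⊤)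
    (w : ((Fin n → F) →ₗ[F] (Fin n → F)) → ℂ) (hw0 : ∀ s, ¬ W ≤ W.comap s → w s = 0)
    (hw : ∀ s, W ≤ W.comap s → ∀ u, w (shift W s u) = w s) :
    ∑ g : GL (Fin n) F, cusp θ n g * w (Matrix.toLin' (g : Matrix (Fin n) (Fin n) F)) = 0 := by
  classical
  haveI : Finite ((Fin n → F) →ₗ[F] (Fin n → F)) := Module.finite_of_finite F
  letI : Fintype ((Fin n → F) →ₗ[F] (Fin n → F)) := Fintype.ofFinite _
  refine (sum_GL fun s => phi F θ (Module.AEval' s) * w s).trans ?_
  rw [Finset.sum_congr rfl (fun s _ => by rw [mul_ite, mul_zero] : ∀ s ∈ (Finset.univ : Finset ((Fin n → F) →ₗ[F] (Fin n → F))),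
      (if s.charpoly.coeff 0 ≠ 0 then phi F θ (Module.AEval' s) * w s else 0) =
      phi F θ (Module.AEval' s) * (if s.charpoly.coeff 0 ≠ 0 then w s else 0))]
  refine sum_phi_weight_eq_zero θ W hW0 hW1 _ (fun s hs => ?_) (fun s hs u => ?_)
  · rw [hw0 s hs, ite_self]
  · rw [charpoly_shift hs u, hw s hs u]

theorem sum_cusp_mul_conj [DecidableEq F] (θ θ' : L → ℂ) :
    ∑ g : GL (Fin n) F, cusp θ n g * conj (cusp θ' n g) =
      ∑ g : GL (Fin n) F, cusp θ n g *
        conj (rootSum θ' (g : Matrix (Fin n) (Fin n) F).charpoly) := by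
  classical
  letI : Fintype (Submodule F (Fin n → F)) := Fintype.ofFinite _
  have h : ∀ W : Submodule F (Fin n → F), W ≠ ⊤ → ∑ g : GL (Fin n) F, cusp θ n g *
      conj (phiRes θ' W (Matrix.toLin' (g : Matrix (Fin n) (Fin n) F))) = 0 := by
    intro W hW
    by_cases hW0 : W = ⊥
    · refine Finset.sum_eq_zero fun g _ => ?_
      subst hW0
      rw [phiRes_pos θ' bot_le, phi_eq_zero θ' fun p _ _ hp => ?_, map_zero, mul_zero]
      haveI := ((isPrim_aeval _ p).1 hp).1
      exact not_nontrivial (⊥ : Submodule F (Fin n → F)) this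
    · exact sum_GL_weight θ W hW0 hW (fun s => conj (phiRes θ' W s))
        (fun s hs => by show conj _ = _; rw [phiRes_neg θ' hs, map_zero])
        (fun s hs u => by show conj _ = conj _; rw [phiRes_shift θ' hs u])
  symm
  calc ∑ g : GL (Fin n) F, cusp θ n g * conj (rootSum θ' (g : Matrix (Fin n) (Fin n) F).charpoly)
      = ∑ W : Submodule F (Fin n → F), ∑ g : GL (Fin n) F, cusp θ n g *
          conj (phiRes θ' W (Matrix.toLin' (g : Matrix (Fin n) (Fin n) F))) := by
        rw [Finset.sum_comm]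
        refine Finset.sum_congr rfl fun g _ => ?_
        rw [← Matrix.charpoly_toLin', eigSum_eq, map_sum, Finset.mul_sum]
    _ = _ := by
        rw [Finset.sum_eq_single ⊤ (fun W _ hW => h W hW) (fun hh => absurd (Finset.mem_univ _) hh)]
        exact Finset.sum_congr rfl fun g _ => by rw [phiRes_top]; rfl

/-- The monic polynomials occurring as characteristic polynomials of cyclic pairs. -/
noncomputable def cPolys (F : Type u) [Field F] [Fintype F] (n : ℕ) : Finset F[X] :=
  @Finset.image _ _ (Classical.decEq _) (fun x : CPair F n => (x.1.1 : Matrix (Fin n) (Fin n) F).charpoly)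
    (@Finset.univ _ (Fintype.ofFinite _))

theorem mem_cPolys [DecidableEq F] {c : F[X]} :
    c ∈ cPolys F n ↔ c.Monic ∧ c.natDegree = n ∧ c.coeff 0 ≠ 0 := by
  classical
  simp only [cPolys, Finset.mem_image, Finset.mem_univ, true_and]
  constructor
  · rintro ⟨x, rfl⟩
    refine ⟨Matrix.charpoly_monic _, by rw [Matrix.charpoly_natDegree_eq_dim, Fintype.card_fin], fun h => ?_⟩
    have := ((Matrix.isUnit_iff_isUnit_det _).1 x.1.1.isUnit).ne_zero
    rw [Matrix.det_eq_sign_charpoly_coeff, h, mul_zero] at this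
    exact this rfl
  · rintro ⟨h1, h2, h3⟩
    exact exists_cpair h1 h2 h3

/-- The inner products in terms of the polynomials. -/
theorem sum_cusp_trace [DecidableEq F] (hn : 1 ≤ n) (θ θ' : L → ℂ) :
    ((Fintype.card F : ℂ) ^ n - 1) *
        ∑ g : GL (Fin n) F, cusp θ n g * conj (rootSum θ' (g : Matrix (Fin n) (Fin n) F).charpoly) =
      (Nat.card (GL (Fin n) F) : ℂ) * ∑ c ∈ cPolys F n, pVal θ c * conj (rootSum θ' c) := by
  classical
  haveI : Nonempty (Fin n) := ⟨⟨0, hn⟩⟩
  letI : Fintype (Submodule F (Fin n → F)) := Fintype.ofFinite _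
  letI : Fintype (CPair F n) := Fintype.ofFinite _
  have hv : ∀ v : Fin n → F, v ≠ 0 →
      ∑ g : GL (Fin n) F, cusp θ n g * conj (rootSum θ' (g : Matrix (Fin n) (Fin n) F).charpoly) =
        ∑ g : GL (Fin n) F, if cyc (Matrix.toLin' (g : Matrix (Fin n) (Fin n) F)) v = ⊤ then
          pVal θ (g : Matrix (Fin n) (Fin n) F).charpoly *
            conj (rootSum θ' (g : Matrix (Fin n) (Fin n) F).charpoly) else 0 := by
    intro v hv
    have h1 : ∀ W : Submodule F (Fin n → F), W ≠ ⊤ → ∑ g : GL (Fin n) F,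
        (if cyc (Matrix.toLin' (g : Matrix (Fin n) (Fin n) F)) v = W then cusp θ n g *
          conj (rootSum θ' (g : Matrix (Fin n) (Fin n) F).charpoly) else 0) = 0 := by
      intro W hW
      by_cases hvW : v ∈ W
      · have hW0 : W ≠ ⊥ := fun h => hv ((Submodule.mem_bot F).1 (h ▸ hvW))
        let w : ((Fin n → F) →ₗ[F] (Fin n → F)) → ℂ := fun s =>
          if W ≤ W.comap s ∧ cyc s v = W then conj (rootSum θ' s.charpoly) else 0
        refine Eq.trans ?_ (sum_GL_weight θ W hW0 hW w (fun s hs => if_neg fun h => hs h.1)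
          (fun s hs u => ?_))
        · refine Finset.sum_congr rfl fun g _ => ?_
          simp only [w, Matrix.charpoly_toLin']
          by_cases hc : cyc (Matrix.toLin' (g : Matrix (Fin n) (Fin n) F)) v = W
          · rw [if_pos hc, if_pos ⟨hc ▸ cyc_le_comap _ v, hc⟩]
          · rw [if_neg hc, if_neg (fun h => hc h.2), mul_zero]
        · simp only [w, charpoly_shift hs u, cyc_shift hs u hvW, le_comap_shift_iff]
      · refine Finset.sum_eq_zero fun g _ => if_neg fun h : _ = W => hvW ?_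
        rw [← h]
        exact mem_cyc _ v
    calc ∑ g : GL (Fin n) F, cusp θ n g * conj (rootSum θ' (g : Matrix (Fin n) (Fin n) F).charpoly)
        = ∑ W : Submodule F (Fin n → F), ∑ g : GL (Fin n) F,
            (if cyc (Matrix.toLin' (g : Matrix (Fin n) (Fin n) F)) v = W then cusp θ n g *
              conj (rootSum θ' (g : Matrix (Fin n) (Fin n) F).charpoly) else 0) := by
          rw [Finset.sum_comm]
          refine Finset.sum_congr rfl fun g _ => ?_
          rw [Finset.sum_ite_eq, if_pos (Finset.mem_univ _)]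
      _ = _ := by
          rw [Finset.sum_eq_single ⊤ (fun W _ hW => h1 W hW) (fun hh => absurd (Finset.mem_univ _) hh)]
          refine Finset.sum_congr rfl fun g _ => ?_
          split_ifs with hc
          · rw [cusp, phi_cyclic θ hn hc, Matrix.charpoly_toLin']
          · rfl
  have hcard : ((Finset.univ.filter fun v : Fin n → F => v ≠ 0).card : ℂ) = (Fintype.card F : ℂ) ^ n - 1 := by
    rw [Finset.filter_ne', Finset.card_erase_of_mem (Finset.mem_univ _), Finset.card_univ,
      Fintype.card_fun, Fintype.card_fin, Nat.cast_sub (Nat.one_le_pow _ _ Fintype.card_pos)]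
    push_cast
    rfl
  rw [← hcard, ← nsmul_eq_mul, ← Finset.sum_const,
    Finset.sum_congr rfl (fun v hv' => hv v (Finset.mem_filter.1 hv').2), Finset.mul_sum]
  have hz : ∀ (g : GL (Fin n) F), cyc (Matrix.toLin' (g : Matrix (Fin n) (Fin n) F)) (0 : Fin n → F) ≠ ⊤ :=
    fun g => by rw [cyc_zero]; exact bot_ne_top
  rw [Finset.sum_filter_of_ne (p := fun v : Fin n → F => v ≠ 0) (fun v _ hne hv0 => hne (Finset.sum_eq_zero fun g _ => if_neg (hv0 ▸ hz g))),
    Finset.sum_comm, ← Fintype.sum_prod_type', ← Finset.sum_filter,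
    Finset.sum_subtype (p := fun x : GL (Fin n) F × (Fin n → F) =>
      cyc (Matrix.toLin' (x.1 : Matrix (Fin n) (Fin n) F)) x.2 = ⊤) _
      (fun x => by simp) (fun x => pVal θ (x.1 : Matrix (Fin n) (Fin n) F).charpoly *
        conj (rootSum θ' (x.1 : Matrix (Fin n) (Fin n) F).charpoly)),
    ← Finset.sum_fiberwise_of_maps_to (t := cPolys F n)
      (g := fun x : CPair F n => (x.1.1 : Matrix (Fin n) (Fin n) F).charpoly)
      (fun x _ => mem_cPolys.2 (by
        refine ⟨Matrix.charpoly_monic _, by rw [Matrix.charpoly_natDegree_eq_dim, Fintype.card_fin], fun h => ?_⟩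
        have := ((Matrix.isUnit_iff_isUnit_det _).1 x.1.1.isUnit).ne_zero
        rw [Matrix.det_eq_sign_charpoly_coeff, h, mul_zero] at this
        exact this rfl))]
  refine Finset.sum_congr rfl fun c hc => ?_
  obtain ⟨h1, h2, h3⟩ := mem_cPolys.1 hc
  obtain ⟨x0, hx0⟩ := exists_cpair h1 h2 h3
  rw [Finset.sum_congr rfl (fun x hx => by rw [(Finset.mem_filter.1 hx).2] :
    ∀ x ∈ Finset.univ.filter (fun x : CPair F n => (x.1.1 : Matrix (Fin n) (Fin n) F).charpoly = c),
      pVal θ (x.1.1 : Matrix (Fin n) (Fin n) F).charpoly *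
        conj (rootSum θ' (x.1.1 : Matrix (Fin n) (Fin n) F).charpoly) = pVal θ c * conj (rootSum θ' c)),
    Finset.sum_const, nsmul_eq_mul, ← card_fibre x0, hx0, ← Fintype.card_subtype, Nat.card_eq_fintype_card]

end Cfsg.Agent.GLCusp
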