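import Cfsg.Agent.Lib.Transfer.Cuspidal.Cyclic
import Cfsg.Agent.Lib.Transfer.Cuspidal.Inner

/-!
Sums over polynomials as sums over the multiplicative group of the extension of degree `n`.
-/

set_option autoImplicit false
set_option linter.unusedSectionVars false

namespace Cfsg.Agent.GLCusp

open Polynomial
open scoped ComplexConjugate

universe u

variable {F : Type u} [Field F] [Fintype F] {L : Type u} [Field L] [Fintype L] [Algebra F L] {n : ℕ}

/-- The iterated Frobenius is injective. -/
theorem pow_card_pow_injective (i : ℕ) : Function.Injective fun x : L => x ^ Fintype.card F ^ i := by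
  induction i with
  | zero => intro x y h; simpa using h
  | succ i ih =>
    intro x y h
    apply ih
    apply (FiniteField.frobeniusAlgHom F L).toRingHom.injective
    show (x ^ Fintype.card F ^ i) ^ Fintype.card F = (y ^ Fintype.card F ^ i) ^ Fintype.card F
    rw [← pow_mul, ← pow_mul, ← pow_succ]
    exact h

theorem aeval_pow_card_pow {p : F[X]} {x : L} (hx : aeval x p = 0) (i : ℕ) :
    aeval (x ^ Fintype.card F ^ i) p = 0 := by
  induction i with
  | zero => simpa using hx
  | succ i ih =>
    rw [pow_succ, pow_mul]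
    have h := Polynomial.aeval_algHom_apply (FiniteField.frobeniusAlgHom F L) (x ^ Fintype.card F ^ i) p
    rw [ih, map_zero] at h
    exact h

theorem pow_card_natDegree {p : F[X]} (hi : Irreducible p) {x : L} (hx : aeval x p = 0) {m : ℕ}
    (hm : p.natDegree ∣ m) : x ^ Fintype.card F ^ m = x := by
  have h := hi.natDegree_dvd_iff_dvd_X_pow_card_pow_sub_X.1 hm
  have := eval₂_eq_zero_of_dvd_of_eval₂_eq_zero (algebraMap F L) x h hx
  simpa [sub_eq_zero, Nat.card_eq_fintype_card] using this

theorem natDegree_dvd_of_pow_card {p : F[X]} (hp : p.Monic) (hi : Irreducible p) {x : L} (hx : aeval x p = 0)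
    {m : ℕ} (hm : x ^ Fintype.card F ^ m = x) : p.natDegree ∣ m := by
  refine hi.natDegree_dvd_of_dvd_X_pow_card_pow_sub_X ?_
  rw [minpoly.eq_of_irreducible_of_monic hi hx hp]
  exact minpoly.dvd F x (by simp [hm, Nat.card_eq_fintype_card])

theorem card_image_orbit {p : F[X]} (hp : p.Monic) (hi : Irreducible p) {x : L} (hx : aeval x p = 0) :
    Set.InjOn (fun i => x ^ Fintype.card F ^ i) (Finset.range p.natDegree : Set ℕ) := by
  have key : ∀ i j, i < j → j < p.natDegree → x ^ Fintype.card F ^ i ≠ x ^ Fintype.card F ^ j := by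
    intro i j hij hj he
    have h1 : x ^ Fintype.card F ^ (j - i) = x := by
      apply pow_card_pow_injective (F := F) i
      show (x ^ Fintype.card F ^ (j - i)) ^ Fintype.card F ^ i = x ^ Fintype.card F ^ i
      rw [← pow_mul, ← pow_add, Nat.sub_add_cancel hij.le]
      exact he.symm
    have := Nat.le_of_dvd (by omega) (natDegree_dvd_of_pow_card hp hi hx h1)
    omega
  intro i hi' j hj' he
  rw [Finset.coe_range, Set.mem_Iio] at hi' hj'
  rcases lt_trichotomy i j with h | h | h
  · exact absurd he (key i j h hj')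
  · exact h
  · exact absurd he.symm (key j i h hi')

theorem roots_nodup {p : F[X]} (hi : Irreducible p) : (p.map (algebraMap F L)).roots.Nodup :=
  nodup_roots ((PerfectField.separable_of_irreducible hi).map)

theorem roots_orbit {p : F[X]} (hp : p.Monic) (hi : Irreducible p) {x : L} (hx : aeval x p = 0)
    [DecidableEq L] :
    (p.map (algebraMap F L)).roots.toFinset = (Finset.range p.natDegree).image fun i => x ^ Fintype.card F ^ i := by
  symm
  refine Finset.eq_of_subset_of_card_le (fun y hy => ?_) ?_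
  · obtain ⟨i, -, rfl⟩ := Finset.mem_image.1 hy
    rw [Multiset.mem_toFinset, mem_roots (hp.map _).ne_zero, IsRoot, eval_map, ← aeval_def]
    exact aeval_pow_card_pow hx i
  · rw [Finset.card_image_of_injOn (card_image_orbit hp hi hx), Finset.card_range]
    refine (Multiset.toFinset_card_le _).trans ((card_roots' _).trans ?_)
    rw [natDegree_map]

theorem rootSum_eq_sum (θ : L → ℂ) {p : F[X]} (hi : Irreducible p) [DecidableEq L] :
    rootSum θ p = ∑ y ∈ (p.map (algebraMap F L)).roots.toFinset, θ y := by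
  rw [rootSum, Finset.sum_eq_multiset_sum, Multiset.toFinset_val, (roots_nodup hi).dedup]

/-- The sum of `θ` over the conjugates, with multiplicity. -/
noncomputable def sN (F : Type u) [Field F] [Fintype F] {L : Type u} [Field L] (n : ℕ) (θ : L → ℂ) (x : L) : ℂ :=
  ∑ i ∈ Finset.range n, θ (x ^ Fintype.card F ^ i)

theorem sN_eq (θ : L → ℂ) {p : F[X]} (hp : p.Monic) (hi : Irreducible p) {x : L} (hx : aeval x p = 0) (k : ℕ) :
    sN F (p.natDegree * k) θ x = k * rootSum θ p := by
  classical
  induction k with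
  | zero => simp [sN]
  | succ k ih =>
    rw [sN, Nat.mul_succ, Finset.sum_range_add, ← sN, ih, Nat.cast_succ, add_mul, one_mul]
    congr 1
    rw [rootSum_eq_sum θ hi, roots_orbit hp hi hx, Finset.sum_image (card_image_orbit hp hi hx)]
    refine Finset.sum_congr rfl fun i _ => ?_
    rw [pow_add, pow_mul, pow_card_natDegree hi hx (dvd_mul_right _ k)]

/-- The roots of unity of order dividing `q ^ n - 1`. -/
noncomputable def rN (F : Type u) [Fintype F] (L : Type u) [Field L] [Fintype L] (n : ℕ) : Finset L :=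
  @Finset.filter L (fun x => x ^ (Fintype.card F ^ n - 1) = 1) (Classical.decPred _) Finset.univ

theorem mem_rN {x : L} : x ∈ rN F L n ↔ x ^ (Fintype.card F ^ n - 1) = 1 := by
  classical
  simp [rN]

theorem one_lt_card_pow (hn : 1 ≤ n) : 1 < Fintype.card F ^ n :=
  Nat.one_lt_pow (by omega) Fintype.one_lt_card

theorem rN_ne_zero (hn : 1 ≤ n) {x : L} (hx : x ∈ rN F L n) : x ≠ 0 := by
  rintro rfl
  have := one_lt_card_pow (F := F) hn
  rw [mem_rN, zero_pow (by omega)] at hx
  exact zero_ne_one hx

theorem rN_pow (hn : 1 ≤ n) {x : L} (hx : x ∈ rN F L n) : x ^ Fintype.card F ^ n = x := by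
  have := one_lt_card_pow (F := F) hn
  rw [← Nat.sub_add_cancel this.le, pow_succ, mem_rN.1 hx, one_mul]

theorem mem_rN_iff (hn : 1 ≤ n) {x : L} : x ∈ rN F L n ↔ x ≠ 0 ∧ x ^ Fintype.card F ^ n = x := by
  refine ⟨fun h => ⟨rN_ne_zero hn h, rN_pow hn h⟩, fun ⟨h0, h⟩ => mem_rN.2 ?_⟩
  apply mul_right_cancel₀ h0
  rw [← pow_succ, Nat.sub_add_cancel (one_lt_card_pow (F := F) hn).le, one_mul]
  exact h

theorem dvd_minpoly {x : L} (hn : 1 ≤ n) (hx : x ∈ rN F L n) : (minpoly F x).natDegree ∣ n :=
  natDegree_dvd_of_pow_card (minpoly.monic (Algebra.IsIntegral.isIntegral x))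
    (minpoly.irreducible (Algebra.IsIntegral.isIntegral x)) (minpoly.aeval F x) (rN_pow hn hx)

/-- The sum over polynomials is a sum over the roots of unity. -/
theorem sum_cPolys [DecidableEq F] (hn : 1 ≤ n) (θ θ' : L → ℂ) :
    ∑ c ∈ cPolys F n, pVal θ c * conj (rootSum θ' c) = ∑ x ∈ rN F L n, sN F n θ x * conj (θ' x) := by
  classical
  rw [← Finset.sum_fiberwise_of_maps_to (s := rN F L n) (t := cPolys F n)
    (g := fun x => minpoly F x ^ (n / (minpoly F x).natDegree)) fun x hx => mem_cPolys.2 ⟨?_, ?_, ?_⟩]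
  · refine Finset.sum_congr rfl fun c hc => ?_
    obtain ⟨hcm, hcd, hc0⟩ := mem_cPolys.1 hc
    by_cases hP : IsPP c
    · obtain ⟨p, hp, hi, k, rfl⟩ := hP
      rw [natDegree_pow] at hcd
      have hk : k ≠ 0 := fun h => by rw [h, zero_mul] at hcd; omega
      have hfib : (rN F L n).filter (fun x => minpoly F x ^ (n / (minpoly F x).natDegree) = p ^ k) =
          (p.map (algebraMap F L)).roots.toFinset := by
        ext x
        rw [Finset.mem_filter, Multiset.mem_toFinset, mem_roots (hp.map _).ne_zero, IsRoot, eval_map,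
          ← aeval_def]
        constructor
        · rintro ⟨hx, he⟩
          have hint := Algebra.IsIntegral.isIntegral (R := F) x
          have hne : n / (minpoly F x).natDegree ≠ 0 := (Nat.div_pos
            (Nat.le_of_dvd hn (dvd_minpoly hn hx)) (minpoly.natDegree_pos hint)).ne'
          have hd : minpoly F x ∣ p := (minpoly.irreducible hint).prime.dvd_of_dvd_pow (he ▸ dvd_pow_self _ hne)
          rw [← eq_of_monic_of_associated (minpoly.monic hint) hp ((minpoly.irreducible hint).associated_of_dvd hi hd)]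
          exact minpoly.aeval F x
        · intro hx
          have hmin : p = minpoly F x := minpoly.eq_of_irreducible_of_monic hi hx hp
          refine ⟨(mem_rN_iff hn).2 ⟨?_, pow_card_natDegree hi hx (hcd ▸ dvd_mul_left _ _)⟩, ?_⟩
          · rintro rfl
            refine hc0 ?_
            rw [coeff_zero_eq_eval_zero, eval_pow, ← coeff_zero_eq_eval_zero]
            have h0 : p.coeff 0 = 0 := by
              rw [← coeff_zero_eq_aeval_zero', map_eq_zero_iff _ (algebraMap F L).injective] at hx
              exact hx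
            rw [h0, zero_pow hk]
          · rw [← hmin, show n / p.natDegree = k by rw [← hcd, Nat.mul_div_cancel _ hi.natDegree_pos]]
      rw [hfib, pVal_pow θ hp hi hk, rootSum_pow θ' hp.ne_zero, map_mul, map_natCast, rootSum_eq_sum θ' hi,
        map_sum, Finset.mul_sum, Finset.mul_sum]
      refine Finset.sum_congr rfl fun x hx => ?_
      rw [Multiset.mem_toFinset, mem_roots (hp.map _).ne_zero, IsRoot, eval_map, ← aeval_def] at hx
      rw [show n = p.natDegree * k from hcd.symm.trans (mul_comm _ _), sN_eq θ hp hi hx]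
      ring
    · rw [pVal_eq_zero θ hP, zero_mul]
      refine (Finset.sum_eq_zero fun x hx => absurd ⟨minpoly F x, minpoly.monic ?_, minpoly.irreducible ?_,
        n / (minpoly F x).natDegree, (Finset.mem_filter.1 hx).2.symm⟩ hP).symm <;>
        exact Algebra.IsIntegral.isIntegral x
  · exact (minpoly.monic (Algebra.IsIntegral.isIntegral x)).pow _
  · rw [natDegree_pow, Nat.div_mul_cancel (dvd_minpoly hn hx)]
  · rw [coeff_zero_eq_eval_zero, eval_pow, ← coeff_zero_eq_eval_zero]
    exact pow_ne_zero _ (minpoly.coeff_zero_ne_zero (Algebra.IsIntegral.isIntegral x) (rN_ne_zero hn hx))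

/-- Orthogonality on the roots of unity. -/
theorem sum_rN_orth (hn : 1 ≤ n) (θ θ' : L →*₀ ℂ) (e : ℕ) [Decidable (∀ x ∈ rN F L n, θ (x ^ e) = θ' x)] :
    ∑ x ∈ rN F L n, θ (x ^ e) * conj (θ' x) =
      if ∀ x ∈ rN F L n, θ (x ^ e) = θ' x then ((rN F L n).card : ℂ) else 0 := by
  classical
  have hN : Fintype.card F ^ n - 1 ≠ 0 := by have := one_lt_card_pow (F := F) hn; omega
  have hnorm : ∀ x ∈ rN F L n, ‖θ' x‖ = 1 := fun x hx =>
    Complex.norm_eq_one_of_pow_eq_one (by rw [← map_pow, mem_rN.1 hx, map_one]) hN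
  have hconj : ∀ x ∈ rN F L n, θ' x * conj (θ' x) = 1 := fun x hx => by
    rw [Complex.mul_conj', hnorm x hx]; simp
  split_ifs with h
  · rw [Finset.sum_congr rfl (fun x hx => by rw [h x hx, hconj x hx] :
      ∀ x ∈ rN F L n, θ (x ^ e) * conj (θ' x) = 1)]
    simp
  · push Not at h
    obtain ⟨y, hy, hne⟩ := h
    have hy0 := rN_ne_zero hn hy
    have hval : θ (y ^ e) * conj (θ' y) ≠ 1 := fun h1 => hne (by
      calc θ (y ^ e) = θ (y ^ e) * (θ' y * conj (θ' y)) := by rw [hconj y hy, mul_one]
        _ = θ' y * (θ (y ^ e) * conj (θ' y)) := by ring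
        _ = θ' y := by rw [h1, mul_one])
    have hmul : ∑ x ∈ rN F L n, θ (x ^ e) * conj (θ' x) =
        θ (y ^ e) * conj (θ' y) * ∑ x ∈ rN F L n, θ (x ^ e) * conj (θ' x) := by
      rw [Finset.mul_sum]
      refine (Finset.sum_bij (fun x _ => y * x)
        (fun x hx => mem_rN.2 (by rw [mul_pow, mem_rN.1 hy, mem_rN.1 hx, one_mul]))
        (fun a _ b _ h => mul_left_cancel₀ hy0 h)
        (fun b hb => ⟨y⁻¹ * b, mem_rN.2 (by rw [mul_pow, inv_pow, mem_rN.1 hy, mem_rN.1 hb, inv_one, one_mul]),
          mul_inv_cancel_left₀ hy0 b⟩) (fun x _ => ?_)).symm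
      rw [mul_pow, map_mul, map_mul, map_mul]
      ring
    by_contra h0
    exact hval ((mul_eq_right₀ h0).1 hmul.symm)

end Cfsg.Agent.GLCusp
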