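import Cfsg.Agent.Lib.Transfer.Cuspidal.QPoly
import Cfsg.Agent.Lib.Classical.InvariantCharpoly

/-!
Finite modules over a polynomial ring over a finite field: the primary weight `phi` and the sum of
its values over all submodules.
-/

set_option autoImplicit false

namespace Cfsg.Agent.GLCusp

open Polynomial

universe u v w

variable {F : Type u} [Field F] [Fintype F] {L : Type w} [Field L] [Algebra F L]

/-- The sum of `θ` over the roots in `L`. -/
noncomputable def rootSum (θ : L → ℂ) (f : F[X]) : ℂ := ((f.map (algebraMap F L)).roots.map θ).sum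

theorem rootSum_mul (θ : L → ℂ) {f g : F[X]} (hf : f ≠ 0) (hg : g ≠ 0) :
    rootSum θ (f * g) = rootSum θ f + rootSum θ g := by
  rw [rootSum, Polynomial.map_mul,
    roots_mul (mul_ne_zero (Polynomial.map_ne_zero hf) (Polynomial.map_ne_zero hg)),
    Multiset.map_add, Multiset.sum_add]
  rfl

theorem rootSum_one (θ : L → ℂ) : rootSum θ (1 : F[X]) = 0 := by simp [rootSum]

theorem rootSum_pow (θ : L → ℂ) {f : F[X]} (hf : f ≠ 0) (k : ℕ) :
    rootSum θ (f ^ k) = k * rootSum θ f := by
  induction k with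
  | zero => simp [rootSum_one]
  | succ k ih => rw [pow_succ, rootSum_mul θ (pow_ne_zero _ hf) hf, ih]; push_cast; ring

/-- The cardinality of the residue field of `p`. -/
noncomputable def qDeg (p : F[X]) : ℕ := Fintype.card F ^ p.natDegree

theorem one_lt_qDeg {p : F[X]} (hi : Irreducible p) : 1 < qDeg p :=
  Nat.one_lt_pow hi.natDegree_pos.ne' Fintype.one_lt_card

theorem card_residue {p : F[X]} (hi : Irreducible p) :
    Finite (F[X] ⧸ Ideal.span {p}) ∧ Nat.card (F[X] ⧸ Ideal.span {p}) = qDeg p := by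
  let pb := AdjoinRoot.powerBasis (f := p) hi.ne_zero
  haveI : Module.Finite F (AdjoinRoot p) := pb.finite
  haveI : Finite (AdjoinRoot p) := Module.finite_of_finite F
  refine ⟨inferInstanceAs (Finite (AdjoinRoot p)), ?_⟩
  show Nat.card (AdjoinRoot p) = _
  rw [Module.natCard_eq_pow_finrank (K := F), Nat.card_eq_fintype_card, pb.finrank,
    AdjoinRoot.powerBasis_dim, qDeg]

variable {M : Type v} [AddCommGroup M] [Module F[X] M]

/-- Non-zero and killed by powers of `p`. -/
def IsPrim (p : F[X]) (M : Type v) [AddCommGroup M] [Module F[X] M] : Prop :=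
  Nontrivial M ∧ ∀ m : M, ∃ N : ℕ, p ^ N • m = 0

/-- The number of elements killed by `p`. -/
noncomputable def kc (p : F[X]) (M : Type v) [AddCommGroup M] [Module F[X] M] : ℕ :=
  Nat.card (Submodule.torsionBy F[X] M p)

open Classical in
/-- The weight of a module: supported on the primary modules. -/
noncomputable def phi (F : Type u) [Field F] [Fintype F] {L : Type w} [Field L] [Algebra F L]
    (θ : L → ℂ) (M : Type v) [AddCommGroup M] [Module F[X] M] : ℂ :=
  if h : ∃ p : F[X], p.Monic ∧ Irreducible p ∧ IsPrim p M then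
    rootSum θ h.choose * qC (qDeg h.choose) (kc h.choose M) else 0

theorem coprime_of_ne {p q : F[X]} (hp : p.Monic) (hpi : Irreducible p) (hq : q.Monic)
    (hqi : Irreducible q) (hne : p ≠ q) : IsCoprime p q :=
  hpi.coprime_iff_not_dvd.2 fun h =>
    hne (eq_of_monic_of_associated hp hq (hpi.associated_of_dvd hqi h))

theorem IsPrim.eq {p q : F[X]} (hp : p.Monic) (hpi : Irreducible p) (hq : q.Monic)
    (hqi : Irreducible q) (h1 : IsPrim p M) (h2 : IsPrim q M) : p = q := by
  by_contra hne
  haveI := h1.1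
  obtain ⟨m, hm⟩ := exists_ne (0 : M)
  obtain ⟨N, hN⟩ := h1.2 m
  obtain ⟨N', hN'⟩ := h2.2 m
  obtain ⟨a, b, hab⟩ := (coprime_of_ne hp hpi hq hqi hne).pow (m := N) (n := N')
  refine hm ?_
  rw [← one_smul F[X] m, ← hab, add_smul, mul_smul, mul_smul, hN, hN', smul_zero, smul_zero,
    add_zero]

theorem phi_eq (θ : L → ℂ) {p : F[X]} (hp : p.Monic) (hpi : Irreducible p) (h : IsPrim p M) :
    phi F θ M = rootSum θ p * qC (qDeg p) (kc p M) := by
  classical
  have he : ∃ q : F[X], q.Monic ∧ Irreducible q ∧ IsPrim q M := ⟨p, hp, hpi, h⟩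
  have : he.choose = p := IsPrim.eq he.choose_spec.1 he.choose_spec.2.1 hp hpi he.choose_spec.2.2 h
  rw [phi, dif_pos he, this]

theorem phi_eq_zero (θ : L → ℂ) (h : ∀ p : F[X], p.Monic → Irreducible p → ¬ IsPrim p M) :
    phi F θ M = 0 := by
  classical
  rw [phi, dif_neg]
  rintro ⟨p, hp, hpi, hP⟩
  exact h p hp hpi hP

theorem phi_of_subsingleton (θ : L → ℂ) [Subsingleton M] : phi F θ M = 0 :=
  phi_eq_zero θ fun _ _ _ h => by haveI := h.1; exact not_nontrivial M this

section Congr

variable {M' : Type v} [AddCommGroup M'] [Module F[X] M']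

theorem IsPrim.congr (e : M ≃ₗ[F[X]] M') {p : F[X]} (h : IsPrim p M) : IsPrim p M' := by
  haveI := h.1
  exact ⟨e.toEquiv.nontrivial_congr.1 this, fun m => (h.2 (e.symm m)).imp fun N hN => by
    have := congrArg e hN
    rwa [map_smul, e.apply_symm_apply, map_zero] at this⟩

theorem kc_congr (e : M ≃ₗ[F[X]] M') (p : F[X]) : kc p M = kc p M' :=
  Nat.card_congr
    { toFun := fun x => ⟨e x, by
        rw [Submodule.mem_torsionBy_iff, ← map_smul, (Submodule.mem_torsionBy_iff _ _).1 x.2,
          map_zero]⟩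
      invFun := fun x => ⟨e.symm x, by
        rw [Submodule.mem_torsionBy_iff, ← map_smul, (Submodule.mem_torsionBy_iff _ _).1 x.2,
          map_zero]⟩
      left_inv := fun x => Subtype.ext (e.symm_apply_apply _)
      right_inv := fun x => Subtype.ext (e.apply_symm_apply _) }

theorem phi_congr (θ : L → ℂ) (e : M ≃ₗ[F[X]] M') : phi F θ M = phi F θ M' := by
  by_cases h : ∃ p : F[X], p.Monic ∧ Irreducible p ∧ IsPrim p M
  · obtain ⟨p, hp, hpi, hP⟩ := h
    rw [phi_eq θ hp hpi hP, phi_eq θ hp hpi (hP.congr e), kc_congr e p]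
  · rw [phi_eq_zero θ fun p hp hpi hP => h ⟨p, hp, hpi, hP⟩,
      phi_eq_zero θ fun p hp hpi hP => h ⟨p, hp, hpi, hP.congr e.symm⟩]

end Congr

/-! ### The residue field acting -/

theorem torsion_quot (p : F[X]) :
    Module.IsTorsionBy F[X] (M ⧸ LinearMap.range (LinearMap.lsmul F[X] M p)) p := by
  intro x
  induction x using Submodule.Quotient.induction_on with
  | _ m =>
    rw [← Submodule.Quotient.mk_smul, Submodule.Quotient.mk_eq_zero]
    exact ⟨m, rfl⟩

theorem card_torsion_eq_coker [Finite M] (p : F[X]) :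
    Nat.card (M ⧸ LinearMap.range (LinearMap.lsmul F[X] M p)) = kc p M := by
  set f := LinearMap.lsmul F[X] M p with hf
  have h1 := (LinearMap.range f).card_eq_card_quotient_mul_card
  have h2 := (LinearMap.ker f).card_eq_card_quotient_mul_card
  rw [Nat.card_congr f.quotKerEquivRange.toEquiv] at h2
  have hk : Nat.card (LinearMap.ker f) = kc p M := rfl
  rw [hk] at h2
  have hpos : 0 < Nat.card (LinearMap.range f) := Nat.card_pos
  refine Nat.eq_of_mul_eq_mul_left hpos ?_
  linarith

section Field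

variable [Finite M] {p : F[X]}

theorem exists_pow_card (hpi : Irreducible p) (h : Module.IsTorsionBy F[X] M p) :
    ∃ r : ℕ, Nat.card M = qDeg p ^ r ∧ (Nontrivial M → 1 ≤ r) := by
  haveI hmax : (Ideal.span {p}).IsMaximal := PrincipalIdealRing.isMaximal_of_irreducible hpi
  letI := Ideal.Quotient.field (Ideal.span {p})
  letI : Module (F[X] ⧸ Ideal.span {p}) M := (Module.isTorsionBySet_span_singleton_iff p).2 h |>.module
  haveI := (card_residue hpi).1
  haveI : Module.Finite (F[X] ⧸ Ideal.span {p}) M := Module.Finite.of_finite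
  refine ⟨Module.finrank (F[X] ⧸ Ideal.span {p}) M, ?_, fun _ => Module.finrank_pos⟩
  rw [Module.natCard_eq_pow_finrank (K := F[X] ⧸ Ideal.span {p}), (card_residue hpi).2]

theorem exists_pow_kc (hpi : Irreducible p) (h : IsPrim p M) :
    ∃ r : ℕ, 1 ≤ r ∧ kc p M = qDeg p ^ r := by
  obtain ⟨r, hr, hr1⟩ := exists_pow_card hpi (M := Submodule.torsionBy F[X] M p)
    (Submodule.torsionBy_isTorsionBy p)
  refine ⟨r, hr1 ?_, hr⟩
  haveI := h.1
  obtain ⟨m, hm⟩ := exists_ne (0 : M)
  obtain ⟨N, hN⟩ := h.2 m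
  induction N generalizing m with
  | zero => simp [hm] at hN
  | succ N ih =>
    by_cases hp : p • m = 0
    · exact ⟨⟨⟨m, by rw [Submodule.mem_torsionBy_iff]; exact hp⟩, 0,
        fun e => hm (congrArg Subtype.val e)⟩⟩
    · exact ih (p • m) hp (by rwa [← mul_smul, ← pow_succ])

variable {S : Type v} [AddCommGroup S] [Module F[X] S] [Finite S]

/-- Homomorphisms into a simple module killed by `p`. -/
theorem natCard_hom (hpi : Irreducible p) (hS : Module.IsTorsionBy F[X] S p)
    (hScard : Nat.card S = qDeg p) : Nat.card (M →ₗ[F[X]] S) = kc p M := by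
  classical
  set Rg := LinearMap.range (LinearMap.lsmul F[X] M p) with hRg
  have e1 : (M →ₗ[F[X]] S) ≃ ((M ⧸ Rg) →ₗ[F[X]] S) :=
    { toFun := fun f => Rg.liftQ f (by
        rintro _ ⟨m, rfl⟩
        rw [LinearMap.mem_ker, LinearMap.lsmul_apply, map_smul]
        exact hS (x := f m))
      invFun := fun f => f.comp Rg.mkQ
      left_inv := fun f => Submodule.liftQ_mkQ _ _ _
      right_inv := fun f => Submodule.linearMap_qext _ (Submodule.liftQ_mkQ _ _ _) }
  haveI hmax : (Ideal.span {p}).IsMaximal := PrincipalIdealRing.isMaximal_of_irreducible hpi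
  letI := Ideal.Quotient.field (Ideal.span {p})
  letI : Module (F[X] ⧸ Ideal.span {p}) (M ⧸ Rg) :=
    (Module.isTorsionBySet_span_singleton_iff p).2 (torsion_quot p) |>.module
  letI : Module (F[X] ⧸ Ideal.span {p}) S :=
    (Module.isTorsionBySet_span_singleton_iff p).2 hS |>.module
  haveI := (card_residue hpi).1
  haveI : Finite (M ⧸ Rg) := Finite.of_surjective _ Rg.mkQ_surjective
  haveI : Module.Finite (F[X] ⧸ Ideal.span {p}) (M ⧸ Rg) := Module.Finite.of_finite
  haveI : Module.Finite (F[X] ⧸ Ideal.span {p}) S := Module.Finite.of_finite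
  have e2 : ((M ⧸ Rg) →ₗ[F[X]] S) ≃ ((M ⧸ Rg) →ₗ[F[X] ⧸ Ideal.span {p}] S) :=
    { toFun := fun f =>
        { toFun := f
          map_add' := f.map_add
          map_smul' := fun c x => by
            obtain ⟨r, rfl⟩ := Ideal.Quotient.mk_surjective c
            exact f.map_smul r x }
      invFun := fun f =>
        { toFun := f
          map_add' := f.map_add
          map_smul' := fun r x => f.map_smul (Ideal.Quotient.mk _ r) x }
      left_inv := fun _ => rfl
      right_inv := fun _ => rfl }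
  have hS1 : Module.finrank (F[X] ⧸ Ideal.span {p}) S = 1 := by
    have h := Module.natCard_eq_pow_finrank (K := F[X] ⧸ Ideal.span {p}) (V := S)
    rw [hScard, (card_residue hpi).2] at h
    exact (Nat.pow_eq_self_iff (one_lt_qDeg hpi)).1 h.symm
  haveI : Module.Finite (F[X] ⧸ Ideal.span {p}) ((M ⧸ Rg) →ₗ[F[X] ⧸ Ideal.span {p}] S) :=
    Module.Finite.linearMap _ _ _ _
  rw [Nat.card_congr (e1.trans e2),
    Module.natCard_eq_pow_finrank (K := F[X] ⧸ Ideal.span {p}) (V := (M ⧸ Rg) →ₗ[_] S),
    Module.finrank_linearMap, hS1, mul_one,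
    ← Module.natCard_eq_pow_finrank (K := F[X] ⧸ Ideal.span {p}) (V := M ⧸ Rg),
    card_torsion_eq_coker]

/-- An element outside the image of `p` has arbitrary images. -/
theorem exists_hom (hpi : Irreducible p) (hS : Module.IsTorsionBy F[X] S p) {x : M}
    (hx : x ∉ LinearMap.range (LinearMap.lsmul F[X] M p)) (y : S) :
    ∃ f : M →ₗ[F[X]] S, f x = y := by
  classical
  set Rg := LinearMap.range (LinearMap.lsmul F[X] M p) with hRg
  haveI hmax : (Ideal.span {p}).IsMaximal := PrincipalIdealRing.isMaximal_of_irreducible hpi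
  letI := Ideal.Quotient.field (Ideal.span {p})
  letI : Module (F[X] ⧸ Ideal.span {p}) (M ⧸ Rg) :=
    (Module.isTorsionBySet_span_singleton_iff p).2 (torsion_quot p) |>.module
  letI : Module (F[X] ⧸ Ideal.span {p}) S :=
    (Module.isTorsionBySet_span_singleton_iff p).2 hS |>.module
  have hne : (Submodule.Quotient.mk x : M ⧸ Rg) ≠ 0 := fun h =>
    hx ((Submodule.Quotient.mk_eq_zero _).1 h)
  obtain ⟨φ, hφe⟩ := LinearMap.exists_extend
    (LinearEquiv.coord (F[X] ⧸ Ideal.span {p}) (M ⧸ Rg) _ hne).toLinearMap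
  have hφ : φ (Submodule.Quotient.mk x) = 1 :=
    (LinearMap.congr_fun hφe ⟨_, Submodule.mem_span_singleton_self _⟩).trans
      (LinearEquiv.coord_self (F[X] ⧸ Ideal.span {p}) (M ⧸ Rg) _ hne)
  refine ⟨{ toFun := fun m => φ (Submodule.Quotient.mk m) • y
            map_add' := fun a b => by rw [Submodule.Quotient.mk_add, map_add, add_smul]
            map_smul' := fun r a => ?_ }, ?_⟩
  · rw [Submodule.Quotient.mk_smul,
      show r • (Submodule.Quotient.mk a : M ⧸ Rg) =
        Ideal.Quotient.mk (Ideal.span {p}) r • (Submodule.Quotient.mk a : M ⧸ Rg) from rfl,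
      map_smul, smul_eq_mul, mul_smul]
    rfl
  · show φ _ • y = y
    rw [hφ, one_smul]

end Field

end Cfsg.Agent.GLCusp
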