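import Mathlib

/-!
The products `(1 - Q) (1 - Q ^ 2) ⋯ (1 - Q ^ (r - 1))` and their sum over tuples of vectors.
-/

set_option autoImplicit false

namespace Cfsg.Agent.GLCusp

/-- `(1 - Q) ⋯ (1 - Q ^ (r - 1))`. -/
noncomputable def qP (Q r : ℕ) : ℂ := ∏ i ∈ Finset.Ico 1 r, (1 - (Q : ℂ) ^ i)

theorem qP_one (Q : ℕ) : qP Q 1 = 1 := by simp [qP]

theorem qP_succ (Q r : ℕ) (hr : 1 ≤ r) : qP Q (r + 1) = qP Q r * (1 - (Q : ℂ) ^ r) :=
  Finset.prod_Ico_succ_top hr _

/-- The product, as a function of the cardinality `c = Q ^ r`. -/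
noncomputable def qC (Q c : ℕ) : ℂ := qP Q (Nat.log Q c)

theorem qC_pow {Q : ℕ} (hQ : 1 < Q) (r : ℕ) : qC Q (Q ^ r) = qP Q r := by
  rw [qC, Nat.log_pow hQ]

/-- Cuspidality identity: the sum over tuples of vectors. -/
theorem sum_tuples_eq_zero {K : Type*} [Field K] [Fintype K] {A : Type*} [AddCommGroup A] [Module K A]
    [Fintype A] (hA : 0 < Module.finrank K A) :
    ∀ b : ℕ, 1 ≤ b →
      ∑ v : Fin b → A, qP (Fintype.card K)
        (Module.finrank K A + b - Module.finrank K (Submodule.span K (Set.range v))) = 0 := by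
  classical
  set Q := Fintype.card K with hQdef
  set a := Module.finrank K A with hadef
  -- the recursion on the number of vectors
  have key : ∀ b : ℕ, ∑ v : Fin (b + 1) → A,
      qP Q (a + (b + 1) - Module.finrank K (Submodule.span K (Set.range v))) =
      ((Q : ℂ) ^ a - (if a + b = 0 then 0 else (Q : ℂ) ^ (a + b))) *
        ∑ v : Fin b → A, qP Q (a + b - Module.finrank K (Submodule.span K (Set.range v))) := by
    intro b
    rw [← (Fin.consEquiv fun _ : Fin (b + 1) => A).sum_comp, Fintype.sum_prod_type, Finset.sum_comm,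
      Finset.mul_sum]
    refine Finset.sum_congr rfl fun v _ => ?_
    set W := Submodule.span K (Set.range v) with hW
    set k := Module.finrank K W with hk
    have hka : k ≤ a := Submodule.finrank_le W
    have hkb : k ≤ b := (finrank_span_le_card (Set.range v)).trans (by
      rw [Set.toFinset_range]; exact (Finset.card_image_le).trans (by simp))
    have hterm : ∀ x : A, Module.finrank K (Submodule.span K
        (Set.range ((Fin.consEquiv fun _ : Fin (b + 1) => A) (x, v)))) = if x ∈ W then k else k + 1 := by
      intro x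
      have hr : Set.range ((Fin.consEquiv fun _ : Fin (b + 1) => A) (x, v)) = insert x (Set.range v) := by
        simp [Fin.consEquiv, Fin.range_cons]
      rw [hr, Submodule.span_insert]
      split_ifs with hx
      · rw [sup_eq_right.2 ((Submodule.span_singleton_le_iff_mem _ _).2 hx)]
      · rw [sup_comm]
        have h0 : x ≠ 0 := fun h => hx (h ▸ W.zero_mem)
        have hd : Disjoint W (K ∙ x) := Submodule.disjoint_span_singleton.2
          fun h => absurd h hx
        have := Submodule.finrank_sup_add_finrank_inf_eq W (K ∙ x)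
        rw [hd.eq_bot, finrank_bot, finrank_span_singleton h0, add_zero] at this
        exact this
    simp only [hterm, apply_ite (fun r => qP Q (a + (b + 1) - r))]
    rw [Finset.sum_ite, Finset.sum_const, Finset.sum_const, nsmul_eq_mul, nsmul_eq_mul]
    have hc1 : ((Finset.univ.filter fun x : A => x ∈ W).card : ℂ) = (Q : ℂ) ^ k := by
      rw [← Nat.cast_pow, ← Module.card_eq_pow_finrank (K := K) (V := W), Fintype.card_subtype]
    have hc2 : ((Finset.univ.filter fun x : A => ¬ x ∈ W).card : ℂ) = (Q : ℂ) ^ a - (Q : ℂ) ^ k := by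
      have h := Finset.card_filter_add_card_filter_not (s := (Finset.univ : Finset A)) (fun x => x ∈ W)
      rw [Finset.card_univ, Module.card_eq_pow_finrank (K := K) (V := A)] at h
      rw [eq_sub_iff_add_eq, ← hc1, add_comm, ← Nat.cast_add, ← Nat.cast_pow]
      exact_mod_cast h
    rw [hc1, hc2, show a + (b + 1) - (k + 1) = a + b - k by omega,
      show a + (b + 1) - k = (a + b - k) + 1 by omega]
    by_cases hs : a + b - k = 0
    · have : a + b = 0 := by omega
      have ha : a = 0 := by omega
      have hk0 : k = 0 := by omega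
      rw [if_pos this, hs, ha, hk0]
      simp [qP]
    · rw [if_neg (by omega), qP_succ Q _ (by omega)]
      have : (Q : ℂ) ^ k * (Q : ℂ) ^ (a + b - k) = (Q : ℂ) ^ (a + b) := by
        rw [← pow_add]; congr 1; omega
      linear_combination (-qP Q (a + b - k)) * this
  intro b hb
  induction b, hb using Nat.le_induction with
  | base =>
    rw [key 0]
    rw [if_neg (by omega), add_zero, sub_self, zero_mul]
  | succ b hb ih => rw [key b, ih, mul_zero]

end Cfsg.Agent.GLCusp
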