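import Cfsg.Agent.Lib.Transfer.Cuspidal.PrimeModule

/-!
The sum of the weights `phi` of all submodules is the sum of `θ` over the eigenvalues.
-/

set_option autoImplicit false
set_option linter.unusedSectionVars false

namespace Cfsg.Agent.GLCusp

open Polynomial

universe u v w

instance finite_quotient {R : Type u} [Ring R] {M : Type v} [AddCommGroup M] [Module R M] [Finite M]
    (W : Submodule R M) : Finite (M ⧸ W) :=
  Finite.of_surjective _ W.mkQ_surjective

variable (F : Type u) [Field F] [Fintype F] {L : Type w} [Field L] [Algebra F L]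

/-- Multiplication by `X` as an `F`-linear map. -/
noncomputable def xEnd (M : Type v) [AddCommGroup M] [Module F[X] M] [Module F M] [IsScalarTower F F[X] M] :
    M →ₗ[F] M :=
  (LinearMap.lsmul F[X] M X).restrictScalars F

variable {F} {M : Type v} [AddCommGroup M] [Module F[X] M] [Module F M] [IsScalarTower F F[X] M]

theorem xEnd_apply (m : M) : xEnd F M m = (X : F[X]) • m := rfl

theorem aeval_xEnd (f : F[X]) (m : M) : aeval (xEnd F M) f m = f • m := by
  induction f using Polynomial.induction_on' with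
  | add a b ha hb => simp [map_add, LinearMap.add_apply, add_smul, ha, hb]
  | monomial k c =>
    have hk : ∀ k : ℕ, ((xEnd F M) ^ k) m = (X : F[X]) ^ k • m := fun k => by
      induction k with
      | zero => simp
      | succ k ih => rw [pow_succ', Module.End.mul_apply, ih, xEnd_apply, ← mul_smul, ← pow_succ']
    rw [aeval_monomial, Module.End.mul_apply, hk, Module.algebraMap_end_apply,
      ← C_mul_X_pow_eq_monomial, mul_smul, ← algebraMap_eq,
      show (algebraMap F F[X]) c • ((X : F[X]) ^ k • m) = c • ((X : F[X]) ^ k • m) from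
        IsScalarTower.algebraMap_smul _ _ _]

variable [Finite M]

variable (F) in
/-- The sum of `θ` over the eigenvalues. -/
noncomputable def eigSum (θ : L → ℂ) (M : Type v) [AddCommGroup M] [Module F[X] M] [Module F M]
    [IsScalarTower F F[X] M] [Finite M] : ℂ :=
  haveI : Module.Finite F M := Module.Finite.of_finite
  rootSum θ (xEnd F M).charpoly

theorem eigSum_add (θ : L → ℂ) (W : Submodule F[X] M) :
    eigSum F θ M = eigSum F θ W + eigSum F θ (M ⧸ W) := by
  haveI : Module.Finite F M := Module.Finite.of_finite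
  have he : W.restrictScalars F ≤ (W.restrictScalars F).comap (xEnd F M) :=
    fun x hx => W.smul_mem (X : F[X]) hx
  have h := InvCharpoly.charpoly_mul (W.restrictScalars F) (xEnd F M) he
  haveI : Module.Finite F W := Module.Finite.of_finite
  haveI : Module.Finite F (M ⧸ W) := Module.Finite.of_finite
  haveI : Module.Finite F (W.restrictScalars F) := Module.Finite.of_finite
  let e1 : (W.restrictScalars F) ≃ₗ[F] W :=
    { toFun := fun x => ⟨x.1, x.2⟩, invFun := fun x => ⟨x.1, x.2⟩, left_inv := fun _ => rfl,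
      right_inv := fun _ => rfl, map_add' := fun _ _ => rfl, map_smul' := fun _ _ => rfl }
  have h1 : ((xEnd F M).restrict he).charpoly = (xEnd F W).charpoly := by
    rw [← LinearEquiv.charpoly_conj e1 ((xEnd F M).restrict he)]
    rfl
  let e2 : (M ⧸ W.restrictScalars F) ≃ₗ[F] (M ⧸ W) := Submodule.Quotient.restrictScalarsEquiv F W
  have h2 : ((W.restrictScalars F).mapQ (W.restrictScalars F) (xEnd F M) he).charpoly =
      (xEnd F (M ⧸ W)).charpoly := by
    rw [← LinearEquiv.charpoly_conj e2
      ((W.restrictScalars F).mapQ (W.restrictScalars F) (xEnd F M) he)]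
    refine congrArg LinearMap.charpoly (LinearMap.ext fun x => ?_)
    induction x using Submodule.Quotient.induction_on with
    | _ m => rfl
  show rootSum θ (xEnd F M).charpoly =
    rootSum θ (xEnd F W).charpoly + rootSum θ (xEnd F (M ⧸ W)).charpoly
  rw [h, h1, h2,
    rootSum_mul θ (LinearMap.charpoly_monic _).ne_zero (LinearMap.charpoly_monic _).ne_zero]

theorem charpoly_simple [Module.Finite F M] {p : F[X]} (hp : p.Monic) (hpi : Irreducible p)
    (hS : Module.IsTorsionBy F[X] M p) (hc : Nat.card M = qDeg p) :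
    (xEnd F M).charpoly = p := by
  haveI : Nontrivial M := Finite.one_lt_card_iff_nontrivial.1 (hc ▸ one_lt_qDeg hpi)
  have h0 : aeval (xEnd F M) p = 0 := LinearMap.ext fun m => by
    rw [aeval_xEnd, LinearMap.zero_apply]; exact hS (x := m)
  have hmin : minpoly F (xEnd F M) = p := (minpoly.eq_of_irreducible_of_monic hpi h0 hp).symm
  have hdvd : p ∣ (xEnd F M).charpoly := hmin ▸ LinearMap.minpoly_dvd_charpoly _
  refine (eq_of_monic_of_dvd_of_natDegree_le hp (LinearMap.charpoly_monic _) hdvd (le_of_eq ?_))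
  rw [LinearMap.charpoly_natDegree]
  refine Nat.pow_right_injective Fintype.one_lt_card (show Fintype.card F ^ _ = Fintype.card F ^ _ from ?_)
  rw [← Nat.card_eq_fintype_card, ← Module.natCard_eq_pow_finrank, hc, qDeg,
    Nat.card_eq_fintype_card]

theorem exists_killed [Nontrivial M] :
    ∃ p : F[X], p.Monic ∧ Irreducible p ∧ ∃ x : M, x ≠ 0 ∧ p • x = 0 := by
  haveI : Module.Finite F M := Module.Finite.of_finite
  have key : ∀ f : F[X], f ≠ 0 → ∀ y : M, y ≠ 0 → f • y = 0 →
      ∃ p : F[X], p.Monic ∧ Irreducible p ∧ ∃ x : M, x ≠ 0 ∧ p • x = 0 := by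
    intro f
    induction f using WfDvdMonoid.induction_on_irreducible with
    | zero => intro h; exact absurd rfl h
    | unit f hf =>
      intro _ y hy hfy
      obtain ⟨c, rfl⟩ := hf
      exact absurd (by rw [← one_smul F[X] y, ← Units.inv_mul c, mul_smul, hfy, smul_zero]) hy
    | mul a i ha hi ih =>
      intro _ y hy hfy
      by_cases h : a • y = 0
      · exact ih ha y hy h
      · refine ⟨i * C i.leadingCoeff⁻¹, monic_mul_leadingCoeff_inv hi.ne_zero, ?_, a • y, h, ?_⟩
        · exact (irreducible_mul_isUnit (isUnit_C.2 (IsUnit.mk0 _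
            (inv_ne_zero (leadingCoeff_ne_zero.2 hi.ne_zero))))).2 hi
        · rw [mul_comm i, mul_smul, ← mul_smul i a, hfy, smul_zero]
  obtain ⟨y, hy⟩ := exists_ne (0 : M)
  refine key (xEnd F M).charpoly (LinearMap.charpoly_monic _).ne_zero y hy ?_
  rw [← aeval_xEnd, LinearMap.aeval_self_charpoly, LinearMap.zero_apply]

section Span

/-- The span of an element killed by an irreducible polynomial. -/
theorem span_simple {M : Type v} [AddCommGroup M] [Module F[X] M] {p : F[X]} (hpi : Irreducible p) {x : M} (hx : x ≠ 0) (hpx : p • x = 0) :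
    Module.IsTorsionBy F[X] (F[X] ∙ x) p ∧ Nat.card (F[X] ∙ x) = qDeg p ∧
      ∀ W : Submodule F[X] M, W ≤ F[X] ∙ x → W = ⊥ ∨ W = F[X] ∙ x := by
  have hco : ∀ r : F[X], r • x ≠ 0 → ∃ a : F[X], a • r • x = x := by
    intro r hr
    obtain ⟨a, b, hab⟩ := (hpi.coprime_iff_not_dvd (n := r)).2 fun hd => hr (by
      obtain ⟨c, rfl⟩ := hd
      rw [mul_comm, mul_smul, hpx, smul_zero])
    refine ⟨b, ?_⟩
    calc b • r • x = a • p • x + b • r • x := by rw [hpx, smul_zero, zero_add]
      _ = x := by rw [← mul_smul, ← mul_smul, ← add_smul, hab, one_smul]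
  have hker : Ideal.span {p} = LinearMap.ker (LinearMap.toSpanSingleton F[X] M x) := by
    refine (PrincipalIdealRing.isMaximal_of_irreducible hpi).eq_of_le ?_ ?_
    · intro h
      have : (1 : F[X]) ∈ LinearMap.ker (LinearMap.toSpanSingleton F[X] M x) := by
        rw [h]; trivial
      exact hx (by simpa using this)
    · rw [Ideal.span_singleton_le_iff_mem]
      exact hpx
  refine ⟨fun ⟨y, hy⟩ => ?_, ?_, fun W hW => ?_⟩
  · obtain ⟨r, rfl⟩ := Submodule.mem_span_singleton.1 hy
    exact Subtype.ext (show p • r • x = 0 by rw [smul_comm, hpx, smul_zero])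
  · rw [← (card_residue hpi).2, ← LinearMap.range_toSpanSingleton,
      ← Nat.card_congr (LinearMap.toSpanSingleton F[X] M x).quotKerEquivRange.toEquiv]
    exact Nat.card_congr (Submodule.quotEquivOfEq _ _ hker.symm).toEquiv
  · by_cases h : W = ⊥
    · exact Or.inl h
    · obtain ⟨w, hw, hw0⟩ := W.exists_mem_ne_zero_of_ne_bot h
      obtain ⟨r, rfl⟩ := Submodule.mem_span_singleton.1 (hW hw)
      obtain ⟨a, ha⟩ := hco r hw0
      exact Or.inr (le_antisymm hW ((Submodule.span_singleton_le_iff_mem _ _).2
        (ha ▸ W.smul_mem a hw)))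

end Span

section Fibre

variable {N : Type v} [AddCommGroup N] [Module F[X] N] [Finite N]

open Classical in
/-- The submodules covering the quotient by a simple submodule. -/
theorem sum_covering [Fintype (Submodule F[X] N)] (θ : L → ℂ) {p₀ : F[X]} (hp₀ : p₀.Monic)
    (hp₀i : Irreducible p₀) {x : N} (hx : x ≠ 0) (hpx : p₀ • x = 0) (htop : F[X] ∙ x ≠ ⊤) :
    ∑ W ∈ Finset.univ.filter (fun W : Submodule F[X] N => W ⊔ (F[X] ∙ x) = ⊤), phi F θ W =
      phi F θ (N ⧸ (F[X] ∙ x)) := by
  classical
  obtain ⟨htor, hcard, hsimp⟩ := span_simple hp₀i hx hpx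
  set Ls := F[X] ∙ x with hLs
  set Q := N ⧸ Ls
  haveI : Finite Q := Finite.of_surjective _ Ls.mkQ_surjective
  haveI : Nontrivial Q := Submodule.Quotient.nontrivial_iff.2 htop
  haveI : Nontrivial N := ⟨⟨x, 0, hx⟩⟩
  -- the complements
  have hsplit : Finset.univ.filter (fun W : Submodule F[X] N => W ⊔ Ls = ⊤) =
      insert ⊤ (Finset.univ.filter fun W : Submodule F[X] N => IsCompl Ls W) := by
    ext W
    simp only [Finset.mem_filter, Finset.mem_univ, true_and, Finset.mem_insert]
    constructor
    · intro h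
      rcases hsimp (Ls ⊓ W) inf_le_left with h1 | h1
      · exact Or.inr ⟨disjoint_iff.2 h1, codisjoint_iff.2 (by rwa [sup_comm])⟩
      · left
        rwa [sup_eq_left.2 (inf_eq_left.1 h1)] at h
    · rintro (rfl | h)
      · rw [top_sup_eq]
      · rw [sup_comm, h.sup_eq_top]
  have hnot : (⊤ : Submodule F[X] N) ∉ Finset.univ.filter fun W : Submodule F[X] N => IsCompl Ls W := by
    simp only [Finset.mem_filter, Finset.mem_univ, true_and]
    intro h
    have := h.inf_eq_bot
    rw [inf_top_eq] at this
    have h2 : x ∈ Ls := Submodule.mem_span_singleton_self x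
    rw [this, Submodule.mem_bot] at h2
    exact hx h2
  have hC : ∀ W : Submodule F[X] N, IsCompl Ls W → phi F θ W = phi F θ Q :=
    fun W hW => (phi_congr θ (Submodule.quotientEquivOfIsCompl Ls W hW)).symm
  rw [hsplit, Finset.sum_insert hnot, Finset.sum_congr rfl fun W hW => hC W (Finset.mem_filter.1 hW).2,
    Finset.sum_const, nsmul_eq_mul, phi_congr θ (Submodule.topEquiv : (⊤ : Submodule F[X] N) ≃ₗ[F[X]] N)]
  set nC := (Finset.univ.filter fun W : Submodule F[X] N => IsCompl Ls W).card with hnCdef
  -- counting complements through projections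
  have hnC : nC = Nat.card {f : N →ₗ[F[X]] Ls // ∀ y : Ls, f y = y} := by
    rw [hnCdef, ← Fintype.card_subtype, ← Nat.card_eq_fintype_card,
      Nat.card_congr (Ls.isComplEquivProj)]
  have hproj : ∀ π : N →ₗ[F[X]] Ls, (∀ y : Ls, π y = y) → nC = kc p₀ Q := by
    intro π hπ
    rw [hnC, ← natCard_hom hp₀i (S := Ls) (M := Q) htor hcard]
    refine Nat.card_congr
      { toFun := fun f => Ls.liftQ (f.1 - π) fun y hy => by
          rw [LinearMap.mem_ker, LinearMap.sub_apply, f.2 ⟨y, hy⟩, hπ ⟨y, hy⟩, sub_self]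
        invFun := fun g => ⟨π + g.comp Ls.mkQ, fun y => by
          rw [LinearMap.add_apply, LinearMap.comp_apply, Submodule.mkQ_apply,
            (Submodule.Quotient.mk_eq_zero Ls).2 y.2, map_zero, add_zero, hπ]⟩
        left_inv := fun f => Subtype.ext (LinearMap.ext fun m => by
          show π m + (f.1 - π) m = f.1 m
          rw [LinearMap.sub_apply, add_sub_cancel])
        right_inv := fun g => Submodule.linearMap_qext _ (LinearMap.ext fun m => by
          show (π m + g (Ls.mkQ m)) - π m = g (Ls.mkQ m)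
          rw [add_sub_cancel_left]) }
  by_cases hQp : ∃ p : F[X], p.Monic ∧ Irreducible p ∧ IsPrim p Q
  swap
  · have h1 : phi F θ N = 0 := phi_eq_zero θ fun p hp hpi hP => hQp ⟨p, hp, hpi, inferInstance,
      fun q => by
        induction q using Submodule.Quotient.induction_on with
        | _ m => exact (hP.2 m).imp fun k hk => by rw [← Submodule.Quotient.mk_smul, hk, Submodule.Quotient.mk_zero]⟩
    rw [h1, phi_eq_zero θ fun p hp hpi hP => hQp ⟨p, hp, hpi, hP⟩, mul_zero, add_zero]
  obtain ⟨p, hp, hpi, hP⟩ := hQp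
  by_cases hpp : p = p₀
  swap
  · have h1 : phi F θ N = 0 := phi_eq_zero θ fun q hq hqi hPN => by
      have hQ : IsPrim q Q := ⟨inferInstance, fun z => by
        induction z using Submodule.Quotient.induction_on with
        | _ m => exact (hPN.2 m).imp fun k hk => by rw [← Submodule.Quotient.mk_smul, hk, Submodule.Quotient.mk_zero]⟩
      haveI hnt : Nontrivial Ls := ⟨⟨⟨x, Submodule.mem_span_singleton_self x⟩, 0,
        fun e => hx (congrArg Subtype.val e)⟩⟩
      have hL : IsPrim q Ls := ⟨hnt, fun y => (hPN.2 y).imp fun k hk => Subtype.ext hk⟩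
      have hL0 : IsPrim p₀ Ls := ⟨hnt, fun y => ⟨1, by rw [pow_one]; exact htor (x := y)⟩⟩
      exact hpp ((IsPrim.eq hp hpi hq hqi hP hQ).trans (IsPrim.eq hq hqi hp₀ hp₀i hL hL0))
    rw [h1, zero_add]
    -- the projection onto the simple submodule
    obtain ⟨K, hK⟩ : ∃ K : ℕ, ∀ z : Q, p ^ K • z = 0 := by
      haveI := Fintype.ofFinite Q
      choose e he using hP.2
      refine ⟨Finset.univ.sup e, fun z => ?_⟩
      rw [← Nat.sub_add_cancel (Finset.le_sup (f := e) (Finset.mem_univ z)), pow_add, mul_smul, he, smul_zero]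
    obtain ⟨a, b, hab⟩ := (coprime_of_ne hp₀ hp₀i hp hpi (Ne.symm hpp)).pow_right (n := K)
    have hmem : ∀ m : N, (b * p ^ K) • m ∈ Ls := fun m => by
      rw [mul_smul]
      refine Ls.smul_mem b ((Submodule.Quotient.mk_eq_zero Ls).1 ?_)
      rw [Submodule.Quotient.mk_smul, hK]
    have hπ : ∀ y : Ls, ((LinearMap.lsmul F[X] N (b * p ^ K)).codRestrict Ls hmem) y = y := by
      intro y
      have hy : p₀ • (y : N) = 0 := congrArg Subtype.val (htor (x := y))
      refine Subtype.ext (show (b * p ^ K) • (y : N) = y from ?_)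
      conv_rhs => rw [← one_smul F[X] (y : N), ← hab, add_smul, mul_smul a, hy, smul_zero, zero_add]
    rw [hproj _ hπ]
    have hk1 : kc p₀ Q = 1 := by
      have hall : ∀ z : Submodule.torsionBy F[X] Q p₀, z = 0 := fun z => Subtype.ext (by
        have hz : p₀ • (z : Q) = 0 := (Submodule.mem_torsionBy_iff _ _).1 z.2
        rw [← one_smul F[X] (z : Q), ← hab, add_smul, mul_smul, mul_smul, hz, hK, smul_zero,
          smul_zero, add_zero]; rfl)
      haveI : Subsingleton (Submodule.torsionBy F[X] Q p₀) := ⟨fun a b => (hall a).trans (hall b).symm⟩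
      exact Nat.card_unique
    rw [hk1, Nat.cast_one, one_mul]
  subst hpp
  have hPN : IsPrim p N := ⟨inferInstance, fun m => by
    obtain ⟨k, hk⟩ := hP.2 (Submodule.Quotient.mk m)
    rw [← Submodule.Quotient.mk_smul, Submodule.Quotient.mk_eq_zero] at hk
    refine ⟨k + 1, ?_⟩
    rw [pow_succ', mul_smul]
    exact congrArg Subtype.val (htor (x := ⟨_, hk⟩))⟩
  obtain ⟨r, hr1, hr⟩ := exists_pow_kc hp₀i hP
  rw [phi_eq θ hp hpi hPN, phi_eq θ hp hpi hP, hr, qC_pow (one_lt_qDeg hpi)]
  by_cases hsp : x ∈ LinearMap.range (LinearMap.lsmul F[X] N p)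
  · -- no complement
    have h0 : nC = 0 := by
      rw [hnC, Nat.card_eq_zero]
      refine Or.inl ⟨fun f => ?_⟩
      obtain ⟨m, hm⟩ := hsp
      have h1 := f.2 ⟨x, Submodule.mem_span_singleton_self x⟩
      have h2 : f.1 x = 0 := by
        have h3 := congrArg f.1 hm
        rw [LinearMap.lsmul_apply, map_smul, htor (x := f.1 m)] at h3
        exact h3.symm
      exact hx (congrArg Subtype.val (h1.symm.trans h2))
    have hkc : kc p N = kc p Q := by
      set Rg := LinearMap.range (LinearMap.lsmul F[X] N p) with hRg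
      set RgQ := LinearMap.range (LinearMap.lsmul F[X] Q p) with hRgQ
      have hle : Ls ≤ Rg := (Submodule.span_singleton_le_iff_mem _ _).2 hsp
      have hcomap : Rg = RgQ.comap Ls.mkQ := by
        refine le_antisymm ?_ ?_
        · rintro _ ⟨m, rfl⟩
          exact ⟨Ls.mkQ m, (map_smul Ls.mkQ p m).symm⟩
        · intro m hm
          obtain ⟨z, hz⟩ := hm
          obtain ⟨z', rfl⟩ := Ls.mkQ_surjective z
          have h2 : m - p • z' ∈ Ls := (Submodule.Quotient.eq Ls).1 hz.symm
          have := Rg.add_mem (hle h2) ⟨z', rfl⟩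
          simpa using this
      rw [← card_torsion_eq_coker (M := N), ← card_torsion_eq_coker (M := Q)]
      have hker : LinearMap.ker (RgQ.mkQ.comp Ls.mkQ) = Rg := by
        rw [LinearMap.ker_comp, Submodule.ker_mkQ, hcomap]
      exact Nat.card_congr ((Submodule.quotEquivOfEq _ _ hker.symm).trans
        ((RgQ.mkQ.comp Ls.mkQ).quotKerEquivOfSurjective
          (RgQ.mkQ_surjective.comp Ls.mkQ_surjective))).toEquiv
    rw [h0, hkc, hr, qC_pow (one_lt_qDeg hpi)]
    simp
  · obtain ⟨π, hπx⟩ := exists_hom hpi (S := Ls) htor hsp ⟨x, Submodule.mem_span_singleton_self x⟩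
    have hπ : ∀ y : Ls, π y = y := by
      rintro ⟨y, hy⟩
      obtain ⟨t, rfl⟩ := Submodule.mem_span_singleton.1 hy
      exact Subtype.ext (by rw [map_smul, Submodule.coe_smul, hπx])
    rw [hproj π hπ, hr]
    have hkc : kc p N = qDeg p * kc p Q := by
      let e : N →ₗ[F[X]] Ls × Q := π.prod Ls.mkQ
      have hbij : Function.Bijective e := by
        refine ⟨(injective_iff_map_eq_zero e).2 fun m hm => ?_, fun yz => ?_⟩
        · have h2 : m ∈ Ls := (Submodule.Quotient.mk_eq_zero Ls).1 (congrArg Prod.snd hm)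
          have h1 : π m = 0 := congrArg Prod.fst hm
          exact congrArg Subtype.val ((hπ ⟨m, h2⟩).symm.trans h1)
        · obtain ⟨y, z⟩ := yz
          obtain ⟨m, rfl⟩ := Ls.mkQ_surjective z
          refine ⟨m + ((y - π m : Ls) : N), Prod.ext ?_ ?_⟩
          · show π (m + ((y - π m : Ls) : N)) = y
            rw [map_add, hπ, add_sub_cancel]
          · show Ls.mkQ (m + ((y - π m : Ls) : N)) = Ls.mkQ m
            rw [map_add, Submodule.mkQ_apply _ ((y - π m : Ls) : N),
              (Submodule.Quotient.mk_eq_zero Ls).2 (y - π m : Ls).2, add_zero]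
      rw [kc_congr (LinearEquiv.ofBijective e hbij) p, kc, ← hcard, kc, ← Nat.card_prod]
      exact Nat.card_congr
        { toFun := fun w => (w.1.1, ⟨w.1.2, congrArg Prod.snd w.2⟩)
          invFun := fun w => ⟨(w.1, w.2.1), by
            rw [Submodule.mem_torsionBy_iff, Prod.smul_mk]
            exact Prod.ext (htor (x := w.1)) ((Submodule.mem_torsionBy_iff _ _).1 w.2.2)⟩
          left_inv := fun _ => rfl
          right_inv := fun _ => rfl }
    rw [hkc, hr, ← pow_succ', qC_pow (one_lt_qDeg hpi), qP_succ _ _ hr1]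
    push_cast
    ring

end Fibre

theorem sum_phi_aux (θ : L → ℂ) : ∀ (k : ℕ) (M : Type v) [AddCommGroup M] [Module F[X] M] [Module F M]
    [IsScalarTower F F[X] M] [Finite M] [Fintype (Submodule F[X] M)], Nat.card M = k →
      ∑ W : Submodule F[X] M, phi F θ W = eigSum F θ M := by
  intro k
  induction k using Nat.strong_induction_on with
  | _ k ih =>
  intro M _ _ _ _ _ _ hk
  classical
  haveI : Module.Finite F M := Module.Finite.of_finite
  rcases subsingleton_or_nontrivial M with hM | hM
  · rw [Finset.sum_eq_zero fun W _ => phi_of_subsingleton θ]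
    show 0 = rootSum θ (xEnd F M).charpoly
    rw [Polynomial.eq_one_of_monic_natDegree_zero (LinearMap.charpoly_monic _)
      (by rw [LinearMap.charpoly_natDegree, Module.finrank_zero_of_subsingleton]), rootSum_one]
  obtain ⟨p, hp, hpi, x, hx, hpx⟩ := exists_killed (F := F) (M := M)
  obtain ⟨htor, hcard, hsimp⟩ := span_simple hpi hx hpx
  set Ls := F[X] ∙ x with hLs
  haveI : Fintype (Submodule F[X] (M ⧸ Ls)) := Fintype.ofFinite _
  rw [← Finset.sum_fiberwise Finset.univ (fun W : Submodule F[X] M => W.map Ls.mkQ)]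
  -- each fibre
  have hmem : ∀ (W : Submodule F[X] M) (Wb : Submodule F[X] (M ⧸ Ls)),
      W.map Ls.mkQ = Wb ↔ W ⊔ Ls = Wb.comap Ls.mkQ := by
    intro W Wb
    constructor
    · rintro rfl
      rw [Submodule.comap_map_mkQ, sup_comm]
    · intro h
      rw [← Submodule.map_comap_eq_of_surjective Ls.mkQ_surjective Wb, ← h, Submodule.map_sup,
        show Ls.map Ls.mkQ = ⊥ by rw [← LinearMap.le_ker_iff_map, Submodule.ker_mkQ], sup_bot_eq]
  have hfib : ∀ Wb : Submodule F[X] (M ⧸ Ls),
      ∑ W ∈ Finset.univ.filter (fun W : Submodule F[X] M => W.map Ls.mkQ = Wb), phi F θ W =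
        phi F θ Wb + if Wb = ⊥ then phi F θ Ls else 0 := by
    intro Wb
    by_cases hb : Wb = ⊥
    · subst hb
      rw [if_pos rfl]
      haveI : Subsingleton (⊥ : Submodule F[X] (M ⧸ Ls)) := Unique.instSubsingleton
      rw [phi_of_subsingleton θ (M := (⊥ : Submodule F[X] (M ⧸ Ls))), zero_add,
        Finset.sum_eq_single Ls]
      · intro W hW hne
        have hWL : W ≤ Ls := by
          have := (hmem W ⊥).1 (Finset.mem_filter.1 hW).2
          rw [Submodule.comap_bot, Submodule.ker_mkQ] at this
          exact this ▸ le_sup_left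
        rcases hsimp W hWL with rfl | h
        · exact phi_of_subsingleton θ
        · exact absurd h hne
      · intro h
        refine absurd ?_ h
        simp [← LinearMap.le_ker_iff_map]
    rw [if_neg hb, add_zero]
    set P0 := Wb.comap Ls.mkQ with hP0
    have hLP : Ls ≤ P0 := fun y hy => by
      show Ls.mkQ y ∈ Wb
      rw [Submodule.mkQ_apply, (Submodule.Quotient.mk_eq_zero Ls).2 hy]
      exact Wb.zero_mem
    let x' : P0 := ⟨x, hLP (Submodule.mem_span_singleton_self x)⟩
    have hx' : x' ≠ 0 := fun e => hx (congrArg Subtype.val e)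
    have hspan : (F[X] ∙ x').map P0.subtype = Ls := by
      rw [Submodule.map_span, Set.image_singleton]
      rfl
    have htop : F[X] ∙ x' ≠ ⊤ := by
      intro e
      rw [e, Submodule.map_top, Submodule.range_subtype] at hspan
      refine hb ?_
      rw [← Submodule.map_comap_eq_of_surjective Ls.mkQ_surjective Wb, ← hP0, hspan,
        ← LinearMap.le_ker_iff_map, Submodule.ker_mkQ]
    haveI : Fintype (Submodule F[X] P0) := Fintype.ofFinite _
    have hsum := sum_covering (N := P0) θ hp hpi hx' (Subtype.ext hpx) htop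
    -- the quotient of `P0` is `Wb`
    let π0 : P0 →ₗ[F[X]] Wb := Ls.mkQ.restrict fun y hy => hy
    have hπ0 : Function.Surjective π0 := by
      rintro ⟨z, hz⟩
      obtain ⟨y, rfl⟩ := Ls.mkQ_surjective z
      exact ⟨⟨y, hz⟩, rfl⟩
    have hker : LinearMap.ker π0 = F[X] ∙ x' := by
      refine Submodule.map_injective_of_injective P0.subtype_injective ?_
      rw [hspan]
      ext y
      constructor
      · rintro ⟨⟨y', hy'⟩, hk', rfl⟩
        exact (Submodule.Quotient.mk_eq_zero Ls).1 (congrArg Subtype.val (LinearMap.mem_ker.1 hk'))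
      · intro hy
        exact ⟨⟨y, hLP hy⟩, LinearMap.mem_ker.2 (Subtype.ext ((Submodule.Quotient.mk_eq_zero Ls).2 hy)), rfl⟩
    rw [phi_congr θ ((Submodule.quotEquivOfEq _ _ hker.symm).trans
      (π0.quotKerEquivOfSurjective hπ0))] at hsum
    rw [← hsum]
    refine Finset.sum_nbij' (fun W => W.comap P0.subtype) (fun W => W.map P0.subtype) ?_ ?_ ?_ ?_ ?_
    · intro W hW
      have h := (hmem W Wb).1 (Finset.mem_filter.1 hW).2
      rw [← hP0] at h
      refine Finset.mem_filter.2 ⟨Finset.mem_univ _, ?_⟩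
      refine Submodule.map_injective_of_injective P0.subtype_injective ?_
      rw [Submodule.map_sup, Submodule.map_comap_subtype, hspan, Submodule.map_top,
        Submodule.range_subtype, inf_eq_right.2 (h ▸ le_sup_left), h]
    · intro W hW
      refine Finset.mem_filter.2 ⟨Finset.mem_univ _, (hmem _ Wb).2 ?_⟩
      rw [← hP0, ← hspan, ← Submodule.map_sup, (Finset.mem_filter.1 hW).2, Submodule.map_top,
        Submodule.range_subtype]
    · intro W hW
      have h := (hmem W Wb).1 (Finset.mem_filter.1 hW).2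
      rw [← hP0] at h
      rw [Submodule.map_comap_subtype, inf_eq_right.2 (h ▸ le_sup_left)]
    · intro W _
      exact Submodule.comap_map_eq_of_injective P0.subtype_injective W
    · intro W hW
      have h := (hmem W Wb).1 (Finset.mem_filter.1 hW).2
      rw [← hP0] at h
      exact phi_congr θ (Submodule.comapSubtypeEquivOfLe (h ▸ le_sup_left : W ≤ P0)).symm
  simp only [hfib, Finset.sum_add_distrib, Finset.sum_ite_eq', Finset.mem_univ, if_true]
  have hlt : Nat.card (M ⧸ Ls) < k := by
    rw [← hk, Ls.card_eq_card_quotient_mul_card, hcard]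
    exact lt_mul_left Nat.card_pos (one_lt_qDeg hpi)
  rw [ih _ hlt (M ⧸ Ls) rfl, eigSum_add θ Ls, add_comm]
  congr 1
  haveI hnt : Nontrivial Ls := ⟨⟨⟨x, Submodule.mem_span_singleton_self x⟩, 0,
    fun e => hx (congrArg Subtype.val e)⟩⟩
  rw [phi_eq θ hp hpi ⟨hnt, fun y => ⟨1, by rw [pow_one]; exact htor (x := y)⟩⟩]
  haveI : Module.Finite F Ls := Module.Finite.of_finite
  show _ = rootSum θ (xEnd F Ls).charpoly
  rw [charpoly_simple hp hpi htor hcard]
  have hkc : kc p Ls = qDeg p := by
    rw [kc, ← hcard]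
    exact Nat.card_congr (Equiv.subtypeUnivEquiv fun y => by
      rw [Submodule.mem_torsionBy_iff]; exact htor (x := y))
  rw [hkc]
  have h1 := qC_pow (one_lt_qDeg hpi) 1
  rw [pow_one] at h1
  rw [h1, qP_one, mul_one]

/-- The sum of the weights of the submodules is the sum of `θ` over the eigenvalues. -/
theorem sum_phi [Fintype (Submodule F[X] M)] (θ : L → ℂ) :
    ∑ W : Submodule F[X] M, phi F θ W = eigSum F θ M :=
  sum_phi_aux θ _ M rfl

end Cfsg.Agent.GLCusp
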